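import Groth.Agent.Sga2lef.H101.SmLim
import Groth.Agent.EtpbcB.BCMor
import Groth.Agent.S0672

/-!
# Base change along directed limits of smooth morphisms, in particular along ind-smooth ring maps

`bcMor_of_isSmLim`, `ubc_of_isSmLim`, `ubc_of_indSmooth`, `bcMor_of_indSmooth`.
-/

set_option autoImplicit false
universe u
open CategoryTheory CategoryTheory.Limits AlgebraicGeometry Opposite

namespace Groth.Agent.Sga2lef.H101.SmLimBC

open EtCoh Groth.Agent.EtpbcB.BCU Groth.Agent.Sga2lef.H101.SmLim

/-- A directed limit of smooth schemes (affine transition maps) satisfies base change. -/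
theorem bcMor_of_isSmLim {S X' X : Scheme.{u}} (s : X ⟶ S) {h : X' ⟶ X} (H : IsSmLim h) : BCMor S h := by
  obtain ⟨ι, _, _, _, D, π, hc, h1, h2, h3⟩ := H
  intro T Y g _ _ h' e sq F hF
  have h4 := fun q => Groth.Agent.S0672.result D h1 h2 (Cone.mk X' π) hc h h3 g h' e sq F
    (isTorsionInvertibleOn_of_hom s hF) q
  exact ⟨fun q => (h4 q).1, (h4 0).2⟩

theorem ubc_of_isSmLim {S X' X : Scheme.{u}} (s : X ⟶ S) {h : X' ⟶ X} (H : IsSmLim h) : UBC S h := by
  intro X'' B' b p f' sq
  exact bcMor_of_isSmLim (b ≫ s) (H.of_isPullback sq.flip)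

/-- Ind-smooth (in particular regular) ring maps satisfy universal base change. -/
theorem ubc_of_indSmooth {A B : Type u} [CommRing A] [CommRing B] [Algebra A B]
    (h : Smoothing.IndSmooth A B) {S : Scheme.{u}} (s : Spec (CommRingCat.of A) ⟶ S) :
    UBC S (Spec.map (CommRingCat.ofHom (algebraMap A B))) :=
  ubc_of_isSmLim s (isSmLim_of_indSmooth h)

/-- Ind-smooth (in particular regular) ring maps satisfy base change. -/
theorem bcMor_of_indSmooth {A B : Type u} [CommRing A] [CommRing B] [Algebra A B]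
    (h : Smoothing.IndSmooth A B) {S : Scheme.{u}} (s : Spec (CommRingCat.of A) ⟶ S) :
    BCMor S (Spec.map (CommRingCat.ofHom (algebraMap A B))) :=
  bcMor_of_isSmLim s (isSmLim_of_indSmooth h)

end Groth.Agent.Sga2lef.H101.SmLimBC
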