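import Groth.Agent.Sga2lef.H101.LocCohBC
import Groth.Agent.Sga2lef.H101.SmLimBC
import Groth.Agent.Etcore.PullJoint
import Groth.Agent.Etrest.ConstBasic
import Groth.Agent.Sga4B.ConstLC
import Groth.Agent.S3365
import Groth.Prelude.Def_FEt
import Groth.Prelude.Def_EtDepth
import Mathlib.RingTheory.Flat.FaithfullyFlat.Algebra

/-!
# Descent of the étale depth along faithfully flat ind-smooth local homomorphisms

`A → C` a faithfully flat, ind-smooth local homomorphism of local rings over a field `k` with `m_A C = m_C`, `A`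
Noetherian, `n` invertible in `k`: if `Spec C` has étale depth `≥ m` at its closed point (for `ℤ/n`), so does
`Spec A`.
-/

set_option autoImplicit false
universe u
open CategoryTheory CategoryTheory.Limits AlgebraicGeometry Opposite IsLocalRing

namespace Groth.Agent.Sga2lef.H101.CplDepth

open EtCoh

theorem isTorsionInvertibleOn_const (k : Type u) [Field k] {n : ℕ} (hn : (n : k) ≠ 0) (Y : Scheme.{u}) :
    EtPBC.IsTorsionInvertibleOn (Spec (CommRingCat.of k)) (EtCoh.const Y (ZMod n)) := by
  have hn0 : n ≠ 0 := by rintro rfl; exact hn (by simp)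
  have : NeZero n := ⟨hn0⟩
  intro V s x
  refine ⟨V, 𝟙 V, n, ⟨x, rfl⟩, ?_, ?_⟩
  · have h0 : IsUnit (n : k) := Ne.isUnit hn
    have h3 := h0.map (Scheme.ΓSpecIso (CommRingCat.of k)).inv.hom
    rw [map_natCast] at h3
    exact h3
  · exact Groth.Agent.Etrest.ConstBasic.killedBy_const Y (ZMod n) n (fun a => by simp) V _

variable {A C : Type u} [CommRing A] [IsLocalRing A] [CommRing C] [IsLocalRing C] [Algebra A C]

theorem preimage_punctured (hm : (maximalIdeal A).map (algebraMap A C) = maximalIdeal C) :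
    Spec.map (CommRingCat.ofHom (algebraMap A C)) ⁻¹ᵁ FEt.puncturedSpec A = FEt.puncturedSpec C := by
  ext x
  change (¬ ((x : PrimeSpectrum C).comap (algebraMap A C) = closedPoint A)) ↔
    ¬ ((x : PrimeSpectrum C) = closedPoint C)
  rw [not_iff_not]
  constructor
  · intro h
    have h1 : maximalIdeal A ≤ (x : PrimeSpectrum C).asIdeal.comap (algebraMap A C) :=
      (congrArg PrimeSpectrum.asIdeal h).ge
    rw [← Ideal.map_le_iff_le_comap, hm] at h1
    exact PrimeSpectrum.ext ((maximalIdeal.isMaximal C).eq_of_le (x : PrimeSpectrum C).isPrime.ne_top h1).symm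
  · intro h
    rw [h]
    apply PrimeSpectrum.ext
    have h1 : maximalIdeal A ≤ (maximalIdeal C).comap (algebraMap A C) := by
      rw [← Ideal.map_le_iff_le_comap, hm]
    exact ((maximalIdeal.isMaximal A).eq_of_le
      (Ideal.IsPrime.comap (algebraMap A C) (hK := (maximalIdeal.isMaximal C).isPrime)).ne_top h1).symm

variable [IsNoetherianRing A]

theorem depthGE_desc (h : Smoothing.IndSmooth A C) [Module.FaithfullyFlat A C]
    (hm : (maximalIdeal A).map (algebraMap A C) = maximalIdeal C) (k : Type u) [Field k] [Algebra k A] {n : ℕ}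
    (hn : (n : k) ≠ 0) {m : ℕ}
    (hC : EtDepth.DepthGE (FEt.puncturedSpec C).ι (const (Spec (CommRingCat.of C)) (ZMod n)) m) :
    EtDepth.DepthGE (FEt.puncturedSpec A).ι (const (Spec (CommRingCat.of A)) (ZMod n)) m := by
  intro p hp
  let g : Spec (CommRingCat.of C) ⟶ Spec (CommRingCat.of A) := Spec.map (CommRingCat.ofHom (algebraMap A C))
  let s : Spec (CommRingCat.of A) ⟶ Spec (CommRingCat.of k) := Spec.map (CommRingCat.ofHom (algebraMap k A))
  obtain ⟨g', sq⟩ : ∃ g' : (FEt.puncturedSpec C).toScheme ⟶ (FEt.puncturedSpec A).toScheme,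
      IsPullback g' (FEt.puncturedSpec C).ι (FEt.puncturedSpec A).ι g := by
    rw [← preimage_punctured hm]
    exact ⟨_, isPullback_morphismRestrict _ _⟩
  obtain ⟨e⟩ := LocCohBC.nonempty_pull_locCoh_iso (SmLimBC.bcMor_of_indSmooth h s) sq
    (const (Spec (CommRingCat.of A)) (ZMod n)) (isTorsionInvertibleOn_const k hn _) p
  have hz : IsZero ((pull g).obj ((EtDual.locCoh (FEt.puncturedSpec A).ι p).obj
      (const (Spec (CommRingCat.of A)) (ZMod n)))) :=
    ((hC p hp).of_iso ((EtDual.locCoh (FEt.puncturedSpec C).ι p).mapIso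
      (Groth.Agent.Sga4B.ConstLC.pullConstIso g (ZMod n)))).of_iso e
  exact Etcore.PullJoint.isZero_of_pull (fun _ : Unit => g)
    (fun x => ⟨(), PrimeSpectrum.comap_surjective_of_faithfullyFlat (A := A) (B := C) x⟩) _ (fun _ => hz)

/-- **Descent of the étale depth.** -/
theorem depthAtGE_desc (h : Smoothing.IndSmooth A C) [Module.FaithfullyFlat A C]
    (hm : (maximalIdeal A).map (algebraMap A C) = maximalIdeal C) (k : Type u) [Field k] [Algebra k A] {n : ℕ}
    (hn : (n : k) ≠ 0) {m : ℕ}
    (hC : EtDepth.DepthGE (FEt.puncturedSpec C).ι (const (Spec (CommRingCat.of C)) (ZMod n)) m) :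
    EtDepth.DepthAtGE (Spec (CommRingCat.of A)) (const (Spec (CommRingCat.of A)) (ZMod n)) (closedPoint A) m := by
  refine (Groth.Agent.S3365.result (FEt.puncturedSpec A).ι _ m).1 (depthGE_desc h hm k hn hC) _ ?_
  rw [Scheme.Opens.range_ι]
  exact fun h => h rfl

end Groth.Agent.Sga2lef.H101.CplDepth
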