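import Groth.Agent.Sga2lef.H101.FTDepth
import Groth.Agent.Sga2lef.H101.CplDepth
import Groth.Agent.S0595
import Groth.Agent.S0600
import Groth.Agent.S0543
import Groth.Prelude.Def_EGA4b
import Mathlib.RingTheory.AdicCompletion.LocalRing
import Mathlib.RingTheory.AdicCompletion.AsTensorProduct
import Mathlib.RingTheory.AdicCompletion.Noetherian
import Mathlib.Algebra.Field.ULift

/-!
# Étale depth and geometric depth for excellent local rings of equal characteristic zero

`main`: the statement of S3371, conditional on `FTDepth.FT (ULift ℚ) p`.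
-/

set_option autoImplicit false
universe u
open CategoryTheory CategoryTheory.Limits AlgebraicGeometry Opposite IsLocalRing

namespace Groth.Agent.Sga2lef.H101.CompDepth

open EtCoh

/-- Transport of the depth of the punctured spectrum along ring isomorphisms. -/
theorem depthGE_ringEquiv {C D : Type u} [CommRing C] [IsLocalRing C] [CommRing D] [IsLocalRing D]
    [IsNoetherianRing D] (e : C ≃+* D) (M : Type) [AddCommGroup M] {m : ℕ}
    (h : EtDepth.DepthGE (FEt.puncturedSpec D).ι (const (Spec (CommRingCat.of D)) M) m) :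
    EtDepth.DepthGE (FEt.puncturedSpec C).ι (const (Spec (CommRingCat.of C)) M) m := by
  let _ : Algebra D C := e.symm.toRingHom.toAlgebra
  have hbij : Function.Bijective (algebraMap D C) := e.symm.bijective
  have hm : (maximalIdeal D).map (algebraMap D C) = maximalIdeal C := by
    rcases Ideal.map_eq_top_or_isMaximal_of_surjective (algebraMap D C) hbij.2
      (maximalIdeal.isMaximal D) with h | h
    · exfalso
      have h1 := Ideal.comap_map_of_surjective' (algebraMap D C) hbij.2 (maximalIdeal D)
      have h2 : RingHom.ker (algebraMap D C) = ⊥ := (RingHom.injective_iff_ker_eq_bot _).1 hbij.1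
      rw [h, h2, sup_bot_eq, Ideal.comap_top] at h1
      exact (maximalIdeal.isMaximal D).ne_top h1.symm
    · exact IsLocalRing.eq_maximalIdeal h
  obtain ⟨g', sq⟩ : ∃ g' : (FEt.puncturedSpec C).toScheme ⟶ (FEt.puncturedSpec D).toScheme,
      IsPullback g' (FEt.puncturedSpec C).ι (FEt.puncturedSpec D).ι
        (Spec.map (CommRingCat.ofHom (algebraMap D C))) := by
    rw [← CplDepth.preimage_punctured hm]
    exact ⟨_, isPullback_morphismRestrict _ _⟩
  have : IsIso (Spec.map (CommRingCat.ofHom (algebraMap D C))) := by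
    have : IsIso (CommRingCat.ofHom (algebraMap D C)) := (ConcreteCategory.isIso_iff_bijective _).2 hbij
    infer_instance
  exact LimDepth.pull_const sq M h

/-- A local ring with a quotient over `ℚ` is a `ℚ`-algebra. -/
theorem exists_ratHom (B : Type u) [CommRing B] [IsLocalRing B] (I : Ideal B) [IsLocalRing (B ⧸ I)]
    (φ : ℚ →+* B ⧸ I) : Nonempty (ℚ →+* B) := by
  refine ⟨IsLocalization.lift (M := nonZeroDivisors ℤ) (S := ℚ) (g := Int.castRingHom B) fun y => ?_⟩
  by_contra hcon
  have h1 : (Int.castRingHom B) y ∈ maximalIdeal B := (mem_maximalIdeal _).2 hcon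
  have h2 : Ideal.Quotient.mk I ((Int.castRingHom B) y) ∈ maximalIdeal (B ⧸ I) := by
    rw [← FTDepth.map_maximalIdeal I]
    exact Ideal.mem_map_of_mem _ h1
  have h3 : Ideal.Quotient.mk I ((Int.castRingHom B) y) = φ ((y : ℤ) : ℚ) := by
    rw [map_intCast]
    exact map_intCast (Ideal.Quotient.mk I) (y : ℤ)
  rw [h3] at h2
  refine (mem_maximalIdeal _).1 h2 (IsUnit.map φ (isUnit_iff_ne_zero.2 ?_))
  exact_mod_cast nonZeroDivisors.ne_zero y.2

instance : CharZero (ULift.{u} ℚ) := ⟨fun a b h => by
  have h1 := congrArg ULift.down h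
  rw [ULift.down_natCast, ULift.down_natCast] at h1
  exact_mod_cast h1⟩

/-- **S3371**, conditional on the finite type statement. -/
theorem main {p : ℕ} (H : FTDepth.FT (ULift.{u} ℚ) p) (hp : p ≠ 0) (A : Type u) [CommRing A] [IsLocalRing A]
    [IsNoetherianRing A] [Algebra ℚ A] (hA : EGA4.IsExcellent A) (B : Type u) [CommRing B] [IsRegularLocalRing B]
    (s : Finset B) (hs : Nonempty (AdicCompletion (maximalIdeal A) A ≃+* B ⧸ Ideal.span (s : Set B)))
    (e : ℕ) (he : ringKrullDim B = (e : WithBot ℕ∞)) :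
    EtDepth.DepthAtGE (Spec (CommRingCat.of A)) (EtCoh.const (Spec (CommRingCat.of A)) (ZMod p))
      (closedPoint A) (e - s.card) := by
  obtain ⟨E⟩ := hs
  let f : Fin s.card → B := fun i => (s.equivFin.symm i : B)
  have hf : Set.range f = (s : Set B) := by
    ext x
    constructor
    · rintro ⟨i, rfl⟩
      exact (s.equivFin.symm i).2
    · intro hx
      exact ⟨s.equivFin ⟨x, hx⟩, by simp [f]⟩
  rw [← hf] at E
  have : IsNoetherianRing (AdicCompletion (maximalIdeal A) A) := Groth.Agent.S0543.result A (maximalIdeal A)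
  have hloc : IsLocalRing (B ⧸ Ideal.span (Set.range f)) := E.isLocalRing
  obtain ⟨ψ⟩ := exists_ratHom B (Ideal.span (Set.range f))
    ((E.toRingHom.comp (algebraMap A (AdicCompletion (maximalIdeal A) A))).comp (algebraMap ℚ A))
  let _ : Algebra (ULift.{u} ℚ) A := ((algebraMap ℚ A).comp (ULift.ringEquiv : ULift.{u} ℚ ≃+* ℚ).toRingHom).toAlgebra
  let _ : Algebra (ULift.{u} ℚ) B := (ψ.comp (ULift.ringEquiv : ULift.{u} ℚ ≃+* ℚ).toRingHom).toAlgebra
  have hind : Smoothing.IndSmooth A (AdicCompletion (maximalIdeal A) A) := by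
    intro P _ _ hP φ
    exact Groth.Agent.S0595.result A _ (Groth.Agent.S0600.result A hA.2.2.1 (maximalIdeal A)) P φ
  have hfl : Module.Flat A (AdicCompletion (maximalIdeal A) A) := inferInstance
  have hff : Module.FaithfullyFlat A (AdicCompletion (maximalIdeal A) A) :=
    Module.FaithfullyFlat.of_flat_of_isLocalHom
  have h1 := FTDepth.depthGE (ULift.{u} ℚ) H he f (e - s.card) le_rfl
  have hpk : (p : ULift.{u} ℚ) ≠ 0 := by exact_mod_cast hp
  exact CplDepth.depthAtGE_desc hind (AdicCompletion.maximalIdeal_eq_map).symm (ULift.{u} ℚ) hpk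
    (depthGE_ringEquiv E (ZMod p) h1)

end Groth.Agent.Sga2lef.H101.CompDepth
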