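import Groth.Agent.Sga2lef.H101.FTDepth
import Groth.Agent.Sga2lef.H107.FibreLoc
import Groth.Agent.Sga2lef.H134.SepWE
import Groth.Agent.Sga2lef.H134.DepthAt
import Groth.Agent.Sga4B.ConstLC

/-!
# Base change in the finite type statement

`FT_of_weaklyEtale`: if `K` is a weakly étale field extension of `k` (e.g. separable algebraic), `FT K n` implies `FT k n`.
-/

set_option autoImplicit false
universe u
open CategoryTheory CategoryTheory.Limits AlgebraicGeometry Opposite IsLocalRing
open scoped TensorProduct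

namespace Groth.Agent.Sga2lef.H101.FTBC

open EtCoh FTDepth Groth.Agent.Etrest.StrictLoc

theorem FT_of_weaklyEtale (k K : Type u) [Field k] [Field K] [Algebra k K]
    (hw : WeaklyEtale (Spec.map (CommRingCat.ofHom (algebraMap k K)))) {n : ℕ} (H : FT K n) : FT k n := by
  intro A _ _ _ q F z d hd
  let I : Ideal A := Ideal.span (Set.range F)
  let A' : Type u := K ⊗[k] A
  let α : A →+* A' := (Algebra.TensorProduct.includeRight : A →ₐ[k] K ⊗[k] A).toRingHom
  let F' : Fin q → A' := fun i => α (F i)
  let I' : Ideal A' := Ideal.span (Set.range F')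
  have hI : I' = I.map α := by
    change Ideal.span _ = Ideal.map α (Ideal.span _)
    rw [Ideal.map_span, ← Set.range_comp]
    rfl
  let ψ : A ⧸ I →+* A' ⧸ I' := Ideal.Quotient.lift I ((Ideal.Quotient.mk I').comp α) (fun a ha => by
    rw [RingHom.comp_apply, Ideal.Quotient.eq_zero_iff_mem, hI]
    exact Ideal.mem_map_of_mem _ ha)
  have hψ : ψ.comp (Ideal.Quotient.mk I) = (Ideal.Quotient.mk I').comp α :=
    RingHom.ext fun a => rfl
  have sq := Groth.Agent.Sga2lef.H107.FibreLoc.isPullback_quot α (Ideal.Quotient.mk I)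
    Ideal.Quotient.mk_surjective I' (by rw [Ideal.mk_ker]; exact hI) ψ hψ
  have sq0 : IsPullback (spm (algebraMap K A')) (spm α) (spm (algebraMap k K)) (spm (algebraMap k A)) :=
    isPullback_SpecMap_of_isPushout _ _ _ _ (CommRingCat.isPushout_tensorProduct k K A)
  have hα : WeaklyEtale (spm α) := MorphismProperty.of_isPullback (P := @WeaklyEtale) sq0 hw
  have hψw : WeaklyEtale (spm ψ) := MorphismProperty.of_isPullback (P := @WeaklyEtale) sq hα
  have hs0 : Surjective (spm (algebraMap k K)) := ⟨fun x => ⟨closedPoint K, Subsingleton.elim _ _⟩⟩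
  have hsα : Surjective (spm α) := MorphismProperty.of_isPullback (P := @Surjective) sq0 hs0
  have hsψ : Surjective (spm ψ) := MorphismProperty.of_isPullback (P := @Surjective) sq hsα
  obtain ⟨z', hz'⟩ := hsψ.surj z
  have hsm : Algebra.Smooth K A' := inferInstance
  have hNA : IsNoetherianRing A := Algebra.FiniteType.isNoetherianRing k A
  have hN : IsNoetherianRing A' := Algebra.FiniteType.isNoetherianRing K A'
  have hfl0 : Flat (spm α) := inferInstance
  have hfl : α.Flat := Flat.SpecMap_iff.1 hfl0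
  let _ : Algebra A A' := α.toAlgebra
  have hfl' : Module.Flat A A' := hfl
  let p : Ideal A := (z : PrimeSpectrum (A ⧸ I)).asIdeal.comap (Ideal.Quotient.mk I)
  let p' : Ideal A' := (z' : PrimeSpectrum (A' ⧸ I')).asIdeal.comap (Ideal.Quotient.mk I')
  have hp : p.IsPrime := Ideal.IsPrime.comap _
  have hp' : p'.IsPrime := Ideal.IsPrime.comap _
  have hpp : p = p'.comap α := by
    change p = ((z' : PrimeSpectrum (A' ⧸ I')).asIdeal.comap (Ideal.Quotient.mk I')).comap α
    rw [Ideal.comap_comap, ← hψ, ← Ideal.comap_comap]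
    have h1 : (z' : PrimeSpectrum (A' ⧸ I')).asIdeal.comap ψ = (z : PrimeSpectrum (A ⧸ I)).asIdeal :=
      congrArg PrimeSpectrum.asIdeal hz'
    rw [h1]
  have hlo : p'.LiesOver p := ⟨hpp⟩
  have h4 := Ideal.height_eq_height_add_of_liesOver_of_hasGoingDown p p'
  have hd' : (d : ℕ∞) ≤ p'.height := by
    rw [h4]
    exact hd.trans le_self_add
  have h5 := H A' q F' z' d hd'
  have h6 : EtDepth.DepthAtGE _ ((pull (spm ψ)).obj (const _ (ZMod n))) z' (d - q) :=
    Groth.Agent.Sga2lef.H134.DepthAt.DepthAtGE.of_iso (Groth.Agent.Sga4B.ConstLC.pullConstIso _ _).symm h5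
  rw [Groth.Agent.Sga2lef.H134.DepthAt.depthAtGE_pull_iff, hz'] at h6
  exact h6

/-- It is enough to prove the finite type statement over algebraically closed fields. -/
theorem FT_of_algebraicClosure (k : Type u) [Field k] [CharZero k] {n : ℕ} (H : FT (AlgebraicClosure k) n) :
    FT k n :=
  FT_of_weaklyEtale k (AlgebraicClosure k) (Groth.Agent.Sga2lef.H134.SepWE.weaklyEtale_sp k) H

end Groth.Agent.Sga2lef.H101.FTBC
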