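import Groth.Prelude.Def_EtDepth
import Groth.Agent.Sga4B.ConstLC
import Groth.Agent.Sga4B.SuppFun

/-!
# Étale depth `≥ 1` of constant sheaves along nowhere dense closed subsets
-/

set_option autoImplicit false
universe u
open CategoryTheory CategoryTheory.Limits AlgebraicGeometry Opposite

namespace Groth.Agent.Sga2lef.H101.DepthOne

open Groth.Agent.Sga4B.ConstLC

theorem mono_of_injective {X : Scheme.{u}} {F G : EtCoh.Ab X} (α : F ⟶ G)
    (h : ∀ U : X.Etale, Function.Injective (α.hom.app (op U))) : Mono α := by
  have h1 : Mono ((sheafToPresheaf _ _).map α) := by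
    rw [NatTrans.mono_iff_mono_app]
    intro V
    exact (AddCommGrpCat.mono_iff_injective _).2 (h V.unop)
  exact (sheafToPresheaf X.smallEtaleTopology AddCommGrpCat.{u + 1}).mono_of_mono_map h1

theorem injective_comap {V W A : Type*} [TopologicalSpace V] [TopologicalSpace W] (p : C(W, V))
    (hp : DenseRange p) : Function.Injective (LocallyConstant.comap (Z := A) p) := by
  intro f g hfg
  ext v
  by_contra hne
  have hopen : IsOpen (f ⁻¹' {f v} ∩ g ⁻¹' {g v}) := (f.isLocallyConstant {f v}).inter (g.isLocallyConstant {g v})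
  obtain ⟨w, hw1, hw2⟩ := hp.exists_mem_open hopen ⟨v, rfl, rfl⟩
  have h3 : f (p w) = g (p w) := LocallyConstant.congr_fun hfg w
  apply hne
  rw [← show f (p w) = f v from hw1, ← show g (p w) = g v from hw2, h3]

theorem mono_unit_const {X U : Scheme.{u}} (j : U ⟶ X) (hd : DenseRange j) (M : Type) [AddCommGroup M] :
    Mono ((EtCoh.pullPushAdj j).unit.app (EtCoh.const X M)) := by
  have h1 : Mono (LCres j (ULift.{u + 1} M)) := by
    refine mono_of_injective _ fun V => ?_
    have hV : Etale V.hom := V.prop
    refine injective_comap (A := ULift.{u + 1} M)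
      (cmap (pullback.fst V.hom j : ((EtCoh.bc j).obj V).left ⟶ V.left)) ?_
    change Dense (Set.range (pullback.fst V.hom j))
    have hr : Set.range (pullback.fst V.hom j) = V.hom ⁻¹' Set.range j := Scheme.Pullback.range_fst V.hom j
    rw [hr]
    exact hd.preimage V.hom.isOpenMap
  have h2 : Mono ((EtCoh.pullPushAdj j).unit.app (LC X (ULift.{u + 1} M))) := by
    have e := unit_LCpull j (ULift.{u + 1} M)
    have : Mono ((EtCoh.pullPushAdj j).unit.app (LC X (ULift.{u + 1} M)) ≫
      (EtCoh.push j).map (LCpull j (ULift.{u + 1} M))) := by rw [e]; exact h1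
    exact mono_of_mono _ ((EtCoh.push j).map (LCpull j (ULift.{u + 1} M)))
  have e := (EtCoh.pullPushAdj j).unit.naturality (constIso X M).hom
  have h3 : Mono ((EtCoh.pullPushAdj j).unit.app (EtCoh.const X M) ≫
      (EtCoh.pull j ⋙ EtCoh.push j).map (constIso X M).hom) := by
    rw [← e]
    exact mono_comp _ _
  exact mono_of_mono _ ((EtCoh.pull j ⋙ EtCoh.push j).map (constIso X M).hom)

/-- The étale depth of a constant sheaf along a closed subset with dense complement is `≥ 1`. -/
theorem depthGE_one {X U : Scheme.{u}} (j : U ⟶ X) [IsOpenImmersion j] (hd : DenseRange j)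
    (M : Type) [AddCommGroup M] : EtDepth.DepthGE j (EtCoh.const X M) 1 := by
  intro p hp
  obtain rfl : p = 0 := by omega
  exact Sga4B.SuppFun.isZero_locCoh_zero j _ (mono_unit_const j hd M)

end Groth.Agent.Sga2lef.H101.DepthOne
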