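import Groth.Agent.Sga2lef.H101.LimDepth
import Groth.Agent.Sga2lef.H101.DepthOne
import Groth.Agent.Sga2lef.H101.IndSmoothPoly
import Groth.Agent.CalgC.DimFT
import Groth.Agent.S3365
import Groth.Prelude.Def_FEt
import Groth.Prelude.Def_EtDepth
import Mathlib.RingTheory.Ideal.KrullsHeightTheorem
import Mathlib.RingTheory.Flat.FaithfullyFlat.Algebra

/-!
# Étale depth of quotients of regular local rings of equal characteristic zero

`FT k n`: the statement for algebras of finite type over the field `k`: if `A` is a smooth `k`-algebra and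
`F_1, …, F_q ∈ A`, the étale depth of `ℤ/n` on `Spec A/(F)` at a point `z` is `≥ ht(z) - q`, the height being
computed in `A`.

`depthGE`: `FT k n` implies that for a regular local `k`-algebra `R` (`k` of characteristic zero) and
`f_1, …, f_q ∈ m_R`, the étale depth of `ℤ/n` on `Spec R/(f)` at the closed point is `≥ dim R - q`.
-/

set_option autoImplicit false
universe u
open CategoryTheory CategoryTheory.Limits AlgebraicGeometry Opposite MvPolynomial IsLocalRing

namespace Groth.Agent.Sga2lef.H101.FTDepth

open EtCoh

/-- **The statement for algebras of finite type over a field.** -/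
def FT (k : Type u) [Field k] (n : ℕ) : Prop :=
  ∀ (A : Type u) [CommRing A] [Algebra k A] [Algebra.Smooth k A] (q : ℕ) (F : Fin q → A)
    (z : Spec (CommRingCat.of (A ⧸ Ideal.span (Set.range F)))) (d : ℕ),
    (d : ℕ∞) ≤ ((z : PrimeSpectrum (A ⧸ Ideal.span (Set.range F))).asIdeal.comap
      (Ideal.Quotient.mk (Ideal.span (Set.range F)))).height →
    EtDepth.DepthAtGE (Spec (CommRingCat.of (A ⧸ Ideal.span (Set.range F)))) (const _ (ZMod n)) z (d - q)

section Origin

variable (k : Type u) [Field k] (d : ℕ)

/-- The ideal of the origin. -/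
noncomputable def orig : Ideal (MvPolynomial (Fin d) k) := Ideal.span (Set.range X)

theorem ker_ev0 : RingHom.ker (ZeroSec.ev0 k d).toRingHom = orig k d := by
  apply le_antisymm
  · intro p hp
    have h1 : ZeroSec.ev0 k d p = 0 := hp
    have h2 := ZeroSec.sub_mem k d p
    rw [h1, map_zero, sub_zero] at h2
    exact h2
  · rw [orig, Ideal.span_le]
    rintro _ ⟨i, rfl⟩
    change ZeroSec.ev0 k d (X i) = 0
    simp [ZeroSec.ev0]

theorem isMaximal_orig : (orig k d).IsMaximal := by
  rw [← ker_ev0]
  exact RingHom.ker_isMaximal_of_surjective _ (ZeroSec.ev0_surjective k d)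

theorem height_orig : (orig k d).height = d := by
  have := isMaximal_orig k d
  exact Groth.Agent.CalgC.DimFT.height_mvPolynomial_isMaximal d (orig k d)

/-- The complement of the origin. -/
noncomputable def U : (Spec (CommRingCat.of (MvPolynomial (Fin d) k))).Opens :=
  ⟨(PrimeSpectrum.zeroLocus (orig k d : Set (MvPolynomial (Fin d) k)))ᶜ,
    (PrimeSpectrum.isClosed_zeroLocus _).isOpen_compl⟩

variable {k d}

theorem mem_V {C : Type u} [CommRing C] (ψ : MvPolynomial (Fin d) k →+* C) (y : PrimeSpectrum C) :
    (y : Spec (CommRingCat.of C)) ∈ LimDepth.V (U k d) ψ ↔ ¬ orig k d ≤ y.asIdeal.comap ψ := Iff.rfl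

theorem orig_le_comap {C : Type u} [CommRing C] (ψ : MvPolynomial (Fin d) k →+* C) (I : Ideal C) :
    orig k d ≤ I.comap ψ ↔ Ideal.span (Set.range fun i : Fin d => ψ (X i)) ≤ I := by
  rw [orig, Ideal.span_le, Ideal.span_le]
  constructor
  · rintro h _ ⟨i, rfl⟩
    exact h ⟨i, rfl⟩
  · rintro h _ ⟨i, rfl⟩
    exact h ⟨i, rfl⟩

theorem V_eq_punctured {C : Type u} [CommRing C] [IsLocalRing C] (ψ : MvPolynomial (Fin d) k →+* C)
    (h : Ideal.span (Set.range fun i : Fin d => ψ (X i)) = maximalIdeal C) :
    LimDepth.V (U k d) ψ = FEt.puncturedSpec C := by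
  ext x
  change (¬ orig k d ≤ (x : PrimeSpectrum C).asIdeal.comap ψ) ↔ ¬ ((x : PrimeSpectrum C) = closedPoint C)
  rw [not_iff_not, orig_le_comap, h]
  constructor
  · intro h
    apply PrimeSpectrum.ext
    exact ((maximalIdeal.isMaximal C).eq_of_le (x : PrimeSpectrum C).isPrime.ne_top h).symm
  · intro h
    rw [h]
    exact le_rfl

/-- The stages: smooth algebras over the polynomial ring. -/
theorem stages {n : ℕ} (H : FT k n) (q : ℕ) : LimDepth.Stages (U k d) (ZMod n) (d - q) q := by
  intro A _ α hα F
  let _ : Algebra (MvPolynomial (Fin d) k) A := α.toAlgebra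
  have hs : Algebra.Smooth (MvPolynomial (Fin d) k) A := hα
  let _ : Algebra k A := Algebra.compHom A (algebraMap k (MvPolynomial (Fin d) k))
  have : IsScalarTower k (MvPolynomial (Fin d) k) A := IsScalarTower.of_algebraMap_eq' rfl
  have hk : Algebra.Smooth k (MvPolynomial (Fin d) k) := ⟨inferInstance, inferInstance⟩
  have hkA : Algebra.Smooth k A := Algebra.Smooth.comp k (MvPolynomial (Fin d) k) A
  have hfl : Module.Flat (MvPolynomial (Fin d) k) A := inferInstance
  have hN : IsNoetherianRing A := Algebra.FiniteType.isNoetherianRing k A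
  rw [Groth.Agent.S3365.result]
  intro y hy
  refine H A q F y d ?_
  let y' : PrimeSpectrum (A ⧸ Ideal.span (Set.range F)) := y
  let p : Ideal A := y'.asIdeal.comap (Ideal.Quotient.mk (Ideal.span (Set.range F)))
  have hp : p.IsPrime := Ideal.IsPrime.comap _
  change (d : ℕ∞) ≤ p.height
  have h1 : orig k d ≤ p.comap α := by
    by_contra hcon
    apply hy
    rw [Scheme.Opens.range_ι]
    exact hcon
  have hmax := isMaximal_orig k d
  have h2 : orig k d = p.comap α := hmax.eq_of_le (Ideal.IsPrime.comap α (hK := hp)).ne_top h1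
  have h3 : p.LiesOver (orig k d) := ⟨h2⟩
  have h4 := Ideal.height_eq_height_add_of_liesOver_of_hasGoingDown (orig k d) p
  rw [height_orig] at h4
  rw [h4]
  exact le_self_add

end Origin

section Local

theorem exists_params (R : Type u) [CommRing R] [IsRegularLocalRing R] (d : ℕ) (hd : ringKrullDim R = d) :
    ∃ t : Fin d → R, Ideal.span (Set.range t) = maximalIdeal R := by
  have hfg : (maximalIdeal R).FG := IsNoetherian.noetherian _
  obtain ⟨s, hs, hs2⟩ := Submodule.FG.exists_span_finset_card_eq_spanFinrank hfg
  have h1 : (s.card : WithBot ℕ∞) = d := by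
    rw [hs, ← hd]
    exact IsRegularLocalRing.spanFinrank_maximalIdeal
  have h2 : s.card = d := by exact_mod_cast h1
  let e := (Fintype.equivFinOfCardEq (α := s) (by rw [Fintype.card_coe, h2])).symm
  refine ⟨fun i => (e i : R), ?_⟩
  have h3 : Set.range (fun i => (e i : R)) = (s : Set R) := by
    ext x
    constructor
    · rintro ⟨i, rfl⟩
      exact (e i).2
    · intro hx
      exact ⟨e.symm ⟨x, hx⟩, by simp⟩
  rw [h3]
  exact hs2

/-- The punctured spectrum of a local ring of positive dimension is dense. -/
theorem denseRange_punctured (C : Type u) [CommRing C] [IsLocalRing C] (h : 0 < ringKrullDim C) :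
    DenseRange (FEt.puncturedSpec C).ι := by
  have hne : ∃ y : PrimeSpectrum C, y ≠ closedPoint C := by
    by_contra hcon
    simp only [ne_eq, not_exists, not_not] at hcon
    have : Subsingleton (PrimeSpectrum C) := ⟨fun a b => (hcon a).trans (hcon b).symm⟩
    have h0 : ringKrullDim C ≤ 0 := Order.krullDim_nonpos_of_subsingleton
    exact absurd h (not_lt.2 h0)
  obtain ⟨y, hy⟩ := hne
  have hmem : ∀ x : PrimeSpectrum C, x ≠ closedPoint C →
      (x : Spec (CommRingCat.of C)) ∈ Set.range (FEt.puncturedSpec C).ι := by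
    intro x hx
    rw [Scheme.Opens.range_ι]
    exact hx
  intro x
  by_cases hx : (x : PrimeSpectrum C) = closedPoint C
  · have h1 : (y : Spec (CommRingCat.of C)) ∈ closure (Set.range (FEt.puncturedSpec C).ι) :=
      subset_closure (hmem y hy)
    have h2 : (y : PrimeSpectrum C) ⤳ closedPoint C :=
      (PrimeSpectrum.le_iff_specializes _ _).1 (le_maximalIdeal y.isPrime.ne_top)
    have h3 : (closedPoint C : Spec (CommRingCat.of C)) ∈ closure (Set.range (FEt.puncturedSpec C).ι) :=
      h2.mem_closed isClosed_closure h1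
    rw [show x = (closedPoint C : Spec (CommRingCat.of C)) from hx]
    exact h3
  · exact subset_closure (hmem x hx)

theorem le_maximal {R : Type u} [CommRing R] [IsLocalRing R] (I : Ideal R) [IsLocalRing (R ⧸ I)] : I ≤ maximalIdeal R := by
  apply le_maximalIdeal
  have h2 : Nontrivial (R ⧸ I) := inferInstance
  exact Ideal.Quotient.nontrivial_iff.1 h2

theorem map_maximalIdeal {R : Type u} [CommRing R] [IsLocalRing R] (I : Ideal R) [IsLocalRing (R ⧸ I)] :
    (maximalIdeal R).map (Ideal.Quotient.mk I) = maximalIdeal (R ⧸ I) := by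
  have hI := le_maximal I
  rcases Ideal.map_eq_top_or_isMaximal_of_surjective (Ideal.Quotient.mk I) Ideal.Quotient.mk_surjective
    (maximalIdeal.isMaximal R) with h | h
  · exfalso
    have h1 := Ideal.comap_map_of_surjective' (Ideal.Quotient.mk I) Ideal.Quotient.mk_surjective (maximalIdeal R)
    rw [h, Ideal.mk_ker, sup_eq_left.2 hI, Ideal.comap_top] at h1
    exact (maximalIdeal.isMaximal R).ne_top h1.symm
  · exact IsLocalRing.eq_maximalIdeal h

variable (k : Type u) [Field k] [CharZero k] {R : Type u} [CommRing R] [IsRegularLocalRing R] [Algebra k R]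

include k in
/-- **Étale depth of quotients of regular local rings** (conditional on the finite type statement). -/
theorem depthGE {n : ℕ} (H : FT k n) {d : ℕ} (hd : ringKrullDim R = d) {q : ℕ} (f : Fin q → R)
    [IsLocalRing (R ⧸ Ideal.span (Set.range f))] (m : ℕ) (hm : m ≤ d - q) :
    EtDepth.DepthGE (FEt.puncturedSpec (R ⧸ Ideal.span (Set.range f))).ι (const _ (ZMod n)) m := by
  obtain rfl | rfl | hm2 : m = 0 ∨ m = 1 ∨ 2 ≤ m := by omega
  · intro p hp
    omega
  · have hf : (Set.range f) ⊆ Ring.jacobson R := by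
      rw [IsLocalRing.ringJacobson_eq_maximalIdeal]
      exact Ideal.subset_span.trans (le_maximal (Ideal.span (Set.range f)))
    have h1 := ringKrullDim_le_ringKrullDim_quotient_add_encard (Set.range f) hf
    rw [hd] at h1
    have h2 : (Set.range f).encard ≤ (q : ℕ∞) := by
      have h3 : (Set.range f).encard ≤ (Set.univ : Set (Fin q)).encard := by
        rw [← Set.image_univ]
        exact Set.encard_image_le f Set.univ
      simpa using h3
    have hpos : 0 < ringKrullDim (R ⧸ Ideal.span (Set.range f)) := by
      by_contra hcon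
      rw [not_lt] at hcon
      have h3 : (d : WithBot ℕ∞) ≤ 0 + ((q : ℕ∞) : WithBot ℕ∞) := by
        refine h1.trans ?_
        gcongr
        exact WithBot.coe_le_coe.2 h2
      rw [zero_add] at h3
      have h4 : d ≤ q := by exact_mod_cast h3
      omega
    exact DepthOne.depthGE_one _ (denseRange_punctured _ hpos) (ZMod n)
  · obtain ⟨t, ht⟩ := exists_params R d hd
    let _ : Algebra (MvPolynomial (Fin d) k) R := (aeval (R := k) t).toAlgebra
    have : IsScalarTower k (MvPolynomial (Fin d) k) R :=
      IsScalarTower.of_algebraMap_eq' (aeval (R := k) t).comp_algebraMap.symm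
    have ht' : Ideal.span (Set.range fun i : Fin d => algebraMap (MvPolynomial (Fin d) k) R (X i)) =
        maximalIdeal R := by
      rw [← ht]
      congr 2
      funext i
      exact aeval_X t i
    have key := LimDepth.depthGE_of_stages (U₀ := U k d) (M := ZMod n)
      (IndSmoothPoly.indSmooth_params hd ht') (by omega : 2 ≤ d - q) (stages H q) f
    have hV := V_eq_punctured ((Ideal.Quotient.mk (Ideal.span (Set.range f))).comp
      (algebraMap (MvPolynomial (Fin d) k) R)) (by
        rw [← map_maximalIdeal, ← ht', Ideal.map_span]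
        congr 1
        ext x
        constructor
        · rintro ⟨i, rfl⟩
          exact ⟨_, ⟨i, rfl⟩, rfl⟩
        · rintro ⟨_, ⟨i, rfl⟩, rfl⟩
          exact ⟨i, rfl⟩)
    rw [hV] at key
    exact fun p hp => key p (by omega)

end Local

end Groth.Agent.Sga2lef.H101.FTDepth
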