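import Groth.Agent.S3101
import Groth.Agent.Etrest.ConstBasic
import Groth.Agent.Etcore.PullJoint
import Groth.Agent.Sga4B.ClosedSupp
import Groth.Agent.Sga4B.Pure
import Groth.Agent.Etbase.OverStalk
import Groth.Agent.S0067
import Mathlib.AlgebraicGeometry.Morphisms.Smooth
import Mathlib.RingTheory.Smooth.StandardSmooth

/-!
# Purity for the origin of affine space

`k` a field, `d > 0`, `n` invertible in `k`: the local cohomology sheaves of `ℤ/n` on `Spec k[X_1, …, X_d]` with
support in the origin vanish in degrees other than `2d`, and the one in degree `2d` is nonzero if `n ≠ 1`; more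
precisely its inverse image under any morphism hitting the origin is nonzero.
-/

set_option autoImplicit false
universe u
open CategoryTheory CategoryTheory.Limits AlgebraicGeometry Opposite MvPolynomial

namespace Groth.Agent.Sga2lef.H101.AffOrigin

section Alg

variable (R : Type u) [CommRing R] (ι : Type) [Finite ι]

/-- The presentation of a polynomial algebra without relations. -/
noncomputable def mvPres : Algebra.Presentation R (MvPolynomial ι R) ι PEmpty.{1} where
  toGenerators := Algebra.Generators.mvPolynomial R ι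
  relation := PEmpty.elim
  span_range_relation_eq_ker := by
    rw [Set.range_eq_empty, Ideal.span_empty, Algebra.Generators.ker_eq_ker_aeval_val]
    symm
    rw [← RingHom.injective_iff_ker_eq_bot]
    change Function.Injective (aeval (X : ι → MvPolynomial ι R))
    rw [aeval_X_left]
    exact Function.injective_id

/-- The submersive presentation of a polynomial algebra without relations. -/
noncomputable def mvSubm : Algebra.SubmersivePresentation R (MvPolynomial ι R) ι PEmpty.{1} where
  toPresentation := mvPres R ι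
  map := PEmpty.elim
  map_inj a := a.elim
  jacobian_isUnit := by
    rw [Algebra.PreSubmersivePresentation.jacobian_eq_jacobiMatrix_det, RingHom.map_det,
      Matrix.det_isEmpty]
    exact isUnit_one

theorem stdSmooth_mvPolynomial (n : ℕ) :
    Algebra.IsStandardSmoothOfRelativeDimension n R (MvPolynomial (Fin n) R) :=
  (mvSubm R (Fin n)).isStandardSmoothOfRelativeDimension (by
    rw [Algebra.Presentation.dimension]; simp)

theorem smooth_mvPolynomial (n : ℕ) : SmoothOfRelativeDimension n
    (Spec.map (CommRingCat.ofHom (algebraMap R (MvPolynomial (Fin n) R)))) := by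
  rw [HasRingHomProperty.Spec_iff (P := @SmoothOfRelativeDimension n)]
  have h : (algebraMap R (MvPolynomial (Fin n) R)).IsStandardSmoothOfRelativeDimension n := by
    have := stdSmooth_mvPolynomial R n
    rw [RingHom.isStandardSmoothOfRelativeDimension_algebraMap]
    exact this
  exact RingHom.locally_of RingHom.isStandardSmoothOfRelativeDimension_respectsIso _ h

end Alg

variable (k : Type u) [Field k] (d : ℕ)

/-- Affine space. -/
noncomputable abbrev A : Scheme.{u} := Spec (CommRingCat.of (MvPolynomial (Fin d) k))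

/-- The structure morphism. -/
noncomputable abbrev f : A k d ⟶ Spec (CommRingCat.of k) :=
  Spec.map (CommRingCat.ofHom (algebraMap k (MvPolynomial (Fin d) k)))

/-- Evaluation at the origin. -/
noncomputable def ev : MvPolynomial (Fin d) k →ₐ[k] k := aeval (fun _ => (0 : k))

/-- The origin. -/
noncomputable def i : Spec (CommRingCat.of k) ⟶ A k d := Spec.map (CommRingCat.ofHom (ev k d).toRingHom)

theorem ev_surjective : Function.Surjective (ev k d) := fun x => ⟨C x, by simp [ev]⟩

instance : IsClosedImmersion (i k d) := IsClosedImmersion.spec_of_surjective _ (ev_surjective k d)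

theorem i_f : i k d ≫ f k d = 𝟙 _ := by
  rw [i, f, ← Spec.map_comp, ← CommRingCat.ofHom_comp]
  have h : (ev k d).toRingHom.comp (algebraMap k (MvPolynomial (Fin d) k)) = RingHom.id k :=
    (ev k d).comp_algebraMap
  rw [h]
  exact Spec.map_id _

/-- The ideal of the origin. -/
noncomputable def ideal : Ideal (MvPolynomial (Fin d) k) := Ideal.span (Set.range X)

theorem ker_ev : RingHom.ker (ev k d).toRingHom = ideal k d := by
  apply le_antisymm
  · intro p hp
    have h1 : ev k d p = 0 := hp
    have h2 : p - C (ev k d p) ∈ ideal k d := by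
      have : ∀ p : MvPolynomial (Fin d) k, p - C (ev k d p) ∈ ideal k d := by
        intro p
        induction p using MvPolynomial.induction_on with
        | C a => simp [ev]
        | add p q hp hq =>
          have e : p + q - C (ev k d (p + q)) = (p - C (ev k d p)) + (q - C (ev k d q)) := by
            rw [map_add, map_add]; ring
          rw [e]
          exact Ideal.add_mem _ hp hq
        | mul_X p i hp =>
          have e : ev k d (p * X i) = 0 := by simp [ev]
          rw [e, map_zero, sub_zero]
          exact Ideal.mul_mem_left _ _ (Ideal.subset_span ⟨i, rfl⟩)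
      exact this p
    rwa [h1, map_zero, sub_zero] at h2
  · rw [ideal, Ideal.span_le]
    rintro _ ⟨i, rfl⟩
    change ev k d (X i) = 0
    simp [ev]

/-- The complement of the origin. -/
noncomputable def U : (A k d).Opens :=
  ⟨(PrimeSpectrum.zeroLocus (ideal k d : Set (MvPolynomial (Fin d) k)))ᶜ,
    (PrimeSpectrum.isClosed_zeroLocus _).isOpen_compl⟩

theorem range_i : Set.range (i k d) = PrimeSpectrum.zeroLocus (ideal k d : Set (MvPolynomial (Fin d) k)) := by
  rw [← ker_ev]
  exact range_comap_of_surjective _ (ev k d).toRingHom (ev_surjective k d)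

theorem range_U : Set.range (U k d).ι = (Set.range (i k d))ᶜ := by
  rw [Scheme.Opens.range_ι, range_i]
  rfl

instance : QuasiCompact (U k d).ι := by
  have : IsLocallyNoetherian (A k d) := inferInstance
  infer_instance

theorem isUnit_natCast {n : ℕ} (hn : (n : k) ≠ 0) : IsUnit (n : Γ(A k d, ⊤)) := by
  have h1 : IsUnit (n : k) := isUnit_iff_ne_zero.2 hn
  have h2 := h1.map (((f k d).appTop.hom).comp (Scheme.ΓSpecIso (CommRingCat.of k)).inv.hom)
  rwa [map_natCast] at h2

theorem killedBy_const (Y : Scheme.{u}) (n : ℕ) [NeZero n] : EtCoh.KilledBy n (EtCoh.const Y (ZMod n)) :=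
  Groth.Agent.Etrest.ConstBasic.killedBy_const Y (ZMod n) n (fun a => by simp)

variable {d} in
theorem purity (hd : 0 < d) {n : ℕ} (hn : (n : k) ≠ 0) :
    (∀ q : ℕ, q ≠ 2 * d → IsZero ((EtDual.locCoh (U k d).ι q).obj (EtCoh.const (A k d) (ZMod n)))) ∧
      ∃ (ι : Type u) (V : ι → (A k d).Etale), EtCoh.Covers V ∧ ∀ a : ι,
        Nonempty (EtCoh.restr ((EtDual.locCoh (U k d).ι (2 * d)).obj (EtCoh.const (A k d) (ZMod n))) (V a) ≅
          EtCoh.restr ((EtCoh.push (i k d)).obj ((EtCoh.pull (i k d)).obj
            (EtCoh.const (A k d) (ZMod n)))) (V a)) := by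
  have hn0 : n ≠ 0 := by rintro rfl; exact hn (by simp)
  have : NeZero n := ⟨hn0⟩
  have h1 : SmoothOfRelativeDimension (0 + d) (f k d) := by
    rw [zero_add]
    exact smooth_mvPolynomial k d
  have h2 : SmoothOfRelativeDimension 0 (𝟙 (Spec (CommRingCat.of k))) := inferInstance
  exact Groth.Agent.S3101.result (f k d) (𝟙 _) (i k d) 0 d hd (i_f k d) (U k d).ι (range_U k d) n
    (isUnit_natCast k d hn) (EtCoh.const (A k d) (ZMod n))
    (Groth.Agent.Etrest.ConstBasic.isFiniteLocallyConstant_const (A k d) (ZMod n))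
    (killedBy_const (A k d) n)

/-- A constant sheaf with nonzero value on a nonempty scheme is nonzero. -/
theorem not_isZero_const (Y : Scheme.{u}) [hY : Nonempty Y] (M : Type) [AddCommGroup M] [Nontrivial M] :
    ¬ IsZero (EtCoh.const Y M) := by
  intro h
  obtain ⟨y⟩ := hY
  obtain ⟨Ω, _, _, ξ, hξ⟩ := Groth.Agent.Etcore.Stalks.exists_geom y
  have h1 : IsZero ((EtCoh.stalk ξ).obj (EtCoh.const Y M)) := (EtCoh.stalk ξ).map_isZero h
  have h2 : IsZero (AddCommGrpCat.of (ULift.{u + 1} M)) :=
    h1.of_iso (Groth.Agent.Etbase.OverStalk.sheafFiberConstantSheafIso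
      (Scheme.pointSmallEtale ξ) (AddCommGrpCat.of (ULift.{u + 1} M))).symm
  have h3 : Subsingleton (ULift.{u + 1} M) := AddCommGrpCat.subsingleton_of_isZero h2
  have h4 : Subsingleton M := ULift.up_injective.subsingleton
  exact not_subsingleton M h4

open Groth.Agent.Sga4B.LocCohLocal in
theorem isZero_of_locIso {X : Scheme.{u}} {F G : EtCoh.Ab X} (h : LocIso F G) (hF : IsZero F) : IsZero G := by
  obtain ⟨ι, V, hV, H⟩ := h
  refine isZero_of_covers G V hV fun a => ?_
  obtain ⟨e⟩ := (nonempty_restr_iso_iff_pull F G (V a)).1 (H a)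
  exact ((EtCoh.pull _).map_isZero hF).of_iso e.symm

theorem isZero_of_isZero_push {Z X : Scheme.{u}} (i : Z ⟶ X) [IsClosedImmersion i] {G : EtCoh.Ab Z}
    (h : IsZero ((EtCoh.push i).obj G)) : IsZero G := by
  obtain ⟨h1, h2⟩ := Groth.Agent.S0067.result i
  have h3 : IsIso (EtCoh.pullPushAdj i).counit := inferInstance
  exact ((EtCoh.pull i).map_isZero h).of_iso (asIso ((EtCoh.pullPushAdj i).counit.app G)).symm

variable {d} in
/-- The local cohomology sheaf in degree `2d` is nonzero. -/
theorem not_isZero_locCoh (hd : 0 < d) {n : ℕ} (hn : (n : k) ≠ 0) (hn1 : n ≠ 1) :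
    ¬ IsZero ((EtDual.locCoh (U k d).ι (2 * d)).obj (EtCoh.const (A k d) (ZMod n))) := by
  intro h
  have h1 := isZero_of_locIso (purity k hd hn).2 h
  have h2 := isZero_of_isZero_push (i k d) h1
  have h3 : IsZero (EtCoh.const (Spec (CommRingCat.of k)) (ZMod n)) :=
    h2.of_iso (Groth.Agent.Sga4B.Pure.pullConst (i k d) (ZMod n)).symm
  have : Nontrivial (ZMod n) := by
    rcases Nat.lt_or_gt_of_ne hn1 with h0 | h0
    · have : n = 0 := by omega
      subst this
      exact inferInstanceAs (Nontrivial ℤ)
    · have : Fact (1 < n) := ⟨h0⟩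
      infer_instance
  have hne : Nonempty (Spec (CommRingCat.of k)) := inferInstanceAs (Nonempty (PrimeSpectrum k))
  exact not_isZero_const (Spec (CommRingCat.of k)) (ZMod n) h3

variable {d} in
/-- The inverse image of the local cohomology sheaf in degree `2d` along a morphism hitting the origin is
nonzero. -/
theorem not_isZero_pull_locCoh (hd : 0 < d) {n : ℕ} (hn : (n : k) ≠ 0) (hn1 : n ≠ 1) {X' : Scheme.{u}}
    (g : X' ⟶ A k d) (x' : X') (hx' : g x' ∈ Set.range (i k d)) :
    ¬ IsZero ((EtCoh.pull g).obj
      ((EtDual.locCoh (U k d).ι (2 * d)).obj (EtCoh.const (A k d) (ZMod n)))) := by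
  intro h
  refine not_isZero_locCoh k hd hn hn1 ?_
  obtain ⟨Ω, _, _, ξ, hξ⟩ := Groth.Agent.Etcore.Stalks.exists_geom x'
  refine Groth.Agent.Etcore.Stalks.isZero_of_stalks _ fun x => ?_
  by_cases hx : x ∈ Set.range (i k d)
  · refine ⟨Ω, inferInstance, inferInstance, ξ ≫ g, ?_, ?_⟩
    · obtain ⟨y, rfl⟩ := hx
      obtain ⟨y', hy'⟩ := hx'
      rw [Scheme.Hom.comp_apply, hξ, ← hy']
      congr 1
      exact Subsingleton.elim (α := PrimeSpectrum k) _ _
    · exact ((EtCoh.stalk ξ).map_isZero h).of_iso ((Groth.Agent.Etbase.StalkPull.stalkPullIso g ξ).app _)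
  · have hx2 : x ∈ Set.range (U k d).ι := by rw [range_U]; exact hx
    obtain ⟨y, rfl⟩ := hx2
    obtain ⟨Ω', _, _, ξ', hξ'⟩ := Groth.Agent.Etcore.Stalks.exists_geom y
    refine ⟨Ω', inferInstance, inferInstance, ξ' ≫ (U k d).ι, ?_, ?_⟩
    · rw [Scheme.Hom.comp_apply, hξ']
    · exact ((EtCoh.stalk ξ').map_isZero
        (Groth.Agent.Sga4B.ClosedSupp.isZero_pull_locCoh (U k d).ι (2 * d) _)).of_iso
          ((Groth.Agent.Etbase.StalkPull.stalkPullIso (U k d).ι ξ').app _)

end Groth.Agent.Sga2lef.H101.AffOrigin
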