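import Groth.Agent.Etcore.LimBC1L
import Groth.Agent.Sga2lef.H86.DepthEt

/-!
# Étale depth and limits of schemes

`depthGE_of_limit`: let `D` be a cofiltered system of schemes over `Y` with affine transition maps and limit `T`,
`j : U ⟶ Y` a quasi-compact open immersion and `F` a sheaf on `Y`.  If the étale depth of `F` along `j` is `≥ n`
over `Y` and over all stages `D a`, and `2 ≤ n`, then it is `≥ n` over the limit.
-/

set_option autoImplicit false
universe u
open CategoryTheory CategoryTheory.Limits AlgebraicGeometry Opposite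

namespace Groth.Agent.Sga2lef.H101.DepthLim

open EtCoh Groth.Agent.Etcore.LimBC1 Groth.Agent.Sga2lef.H86.DepthEt
  Groth.Agent.Sga4B.HpullSquare

section Square

variable {X U X' U' : Scheme.{u}} {j : U ⟶ X} {j' : U' ⟶ X'} {g : X' ⟶ X} {g' : U' ⟶ U}

/-- If the unit for `j` is an isomorphism, the unit for `j'` is an isomorphism iff the base change map is. -/
theorem isIso_unit_iff (w : g' ≫ j = j' ≫ g) (F : Ab X) (h : IsIso ((pullPushAdj j).unit.app F)) :
    IsIso (baseChange0 j g j' g' w ((pull j).obj F)) ↔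
      IsIso ((pullPushAdj j').unit.app ((pull g).obj F)) := by
  have e := Groth.Agent.Sga2lef.H86.Tools.pull_unit_baseChange0 j g j' g' w F
  constructor
  · intro h1
    have h2 : IsIso ((pullPushAdj j').unit.app ((pull g).obj F) ≫
        (push j').map ((pullSquare g j j' g' w).hom.app F)) := by
      rw [← e]
      infer_instance
    exact IsIso.of_isIso_comp_right _ ((push j').map ((pullSquare g j j' g' w).hom.app F))
  · intro h1
    have h2 : IsIso ((pull g).map ((pullPushAdj j).unit.app F) ≫
        baseChange0 j g j' g' w ((pull j).obj F)) := by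
      rw [e]
      infer_instance
    exact IsIso.of_isIso_comp_left ((pull g).map ((pullPushAdj j).unit.app F)) _

end Square

variable {I : Type u} [SmallCategory I] [IsCofiltered I] {D : I ⥤ Scheme.{u}}
  [∀ {a b : I} (φ : a ⟶ b), IsAffineHom (D.map φ)] {c : Cone D} (hc : IsLimit c)
  {U Y : Scheme.{u}} {j : U ⟶ Y} [IsOpenImmersion j] [QuasiCompact j] {F : Ab Y}
  (τ : ∀ a, D.obj a ⟶ Y) (hτ : ∀ ⦃a b : I⦄ (h : a ⟶ b), D.map h ≫ τ b = τ a)
  {t : c.pt ⟶ Y} (ht : ∀ a, c.π.app a ≫ τ a = t)

include hc hτ ht in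
/-- Étale depth `≥ n`, `n ≥ 2`, passes to cofiltered limits with affine transition maps. -/
theorem depthGE_of_limit (n : ℕ) (hn : 2 ≤ n) (H₀ : EtDepth.DepthGE j F n)
    (H : ∀ a, EtDepth.DepthGE (pullback.snd j (τ a)) ((pull (τ a)).obj F) n)
    {U' : Scheme.{u}} (j' : U' ⟶ c.pt) [IsOpenImmersion j'] (g' : U' ⟶ U) (hsq : IsPullback g' j' j t) :
    EtDepth.DepthGE j' ((pull t).obj F) n := by
  rw [depthGE_iff_cond] at H₀ ⊢
  have H' : ∀ a, Cond (pullback.snd j (τ a)) ((pull (τ a)).obj F) n := fun a =>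
    (depthGE_iff_cond _ _ n).1 (H a)
  have h0 := H₀.iso hn
  have hbc : ∀ a, IsIso (baseChange0 j (τ a) (pullback.snd j (τ a)) (pullback.fst j (τ a))
      pullback.condition ((pull j).obj F)) := fun a =>
    (isIso_unit_iff pullback.condition F h0).2 ((H' a).iso hn)
  have hlim := Groth.Agent.Etcore.LimBC0.isIso_baseChange0_of_limit hc τ hτ ht hbc j' g' hsq
  have hiso : IsIso ((pullPushAdj j').unit.app ((pull t).obj F)) := (isIso_unit_iff hsq.w F h0).1 hlim
  refine ⟨fun _ => inferInstance, fun _ => hiso, fun q hq => ?_⟩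
  have hz := isZero_Rpush_of_limit (f := j) (F := (pull j).obj F) hc τ hτ ht (n := q + 1) (by omega)
    (fun a => ((H' a).zero q hq).of_iso ((Rpush (pullback.snd j (τ a)) (q + 1)).mapIso
      ((pullSquare (τ a) j (pullback.snd j (τ a)) (pullback.fst j (τ a)) pullback.condition).symm.app F)))
    j' g' hsq
  exact hz.of_iso ((Rpush j' (q + 1)).mapIso ((pullSquare t j j' g' hsq.w).app F))

end Groth.Agent.Sga2lef.H101.DepthLim
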