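import Groth.Agent.Sga2lef.H101.SmLim
import Mathlib.RingTheory.RingHom.Smooth

/-!
# Ind-smooth algebras with chosen elements

`B` an ind-smooth algebra over `P`, made into a `P[Y_1, …, Y_q]`-algebra by the choice of `q` elements: `Spec B` is
the limit of an inverse system of affine `Spec P[Y]`-schemes, smooth over `P`, with affine transition morphisms.
-/

set_option autoImplicit false
universe u
open CategoryTheory CategoryTheory.Limits AlgebraicGeometry Opposite MvPolynomial

namespace Groth.Agent.Sga2lef.H101.PolyInd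

open Groth.Agent.Proet FacInd FacM SmLim

variable (P : Type u) [CommRing P] (q : ℕ)

/-- Algebras over the polynomial ring which are smooth over the base ring. -/
def SmBase (W : Type u) [CommRing W] [Algebra (MvPolynomial (Fin q) P) W] : Prop :=
  ((algebraMap (MvPolynomial (Fin q) P) W).comp (C : P →+* MvPolynomial (Fin q) P)).Smooth

theorem good : Good (A := MvPolynomial (Fin q) P) (fun W _ _ => SmBase P q W) where
  iso W W' _ _ _ _ e h := by
    have h1 : (algebraMap (MvPolynomial (Fin q) P) W').comp (C : P →+* MvPolynomial (Fin q) P) =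
        e.toRingEquiv.toRingHom.comp
          ((algebraMap (MvPolynomial (Fin q) P) W).comp (C : P →+* MvPolynomial (Fin q) P)) := by
      ext x
      exact (e.commutes (C x)).symm
    change ((algebraMap (MvPolynomial (Fin q) P) W').comp (C : P →+* MvPolynomial (Fin q) P)).Smooth
    rw [h1]
    exact RingHom.Smooth.comp h (RingHom.Smooth.of_bijective e.bijective)
  fp W _ _ h := by
    let _ : Algebra P W := ((algebraMap (MvPolynomial (Fin q) P) W).comp
      (C : P →+* MvPolynomial (Fin q) P)).toAlgebra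
    have : Algebra.Smooth P W := h
    have t : IsScalarTower P (MvPolynomial (Fin q) P) W := IsScalarTower.of_algebraMap_eq' rfl
    exact Algebra.FinitePresentation.of_restrict_scalars_finitePresentation P _ W

variable {P q} {B : Type u} [CommRing B] [Algebra P B] [Algebra (MvPolynomial (Fin q) P) B]
  [IsScalarTower P (MvPolynomial (Fin q) P) B]

theorem isInd (h : Smoothing.IndSmooth P B) :
    IsInd (MvPolynomial (Fin q) P) (fun W _ _ => SmBase P q W) B := by
  refine Fac.isInd (good P q) ?_
  intro Z _ _ hZ g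
  let _ : Algebra P Z := Algebra.compHom Z (algebraMap P (MvPolynomial (Fin q) P))
  have tZ : IsScalarTower P (MvPolynomial (Fin q) P) Z := IsScalarTower.of_algebraMap_eq' rfl
  have hZ' : Algebra.FinitePresentation P Z := Algebra.FinitePresentation.trans P (MvPolynomial (Fin q) P) Z
  obtain ⟨W, _, _, hW, a, b, hab⟩ := h Z hZ' (g.restrictScalars P)
  let _ : Algebra (MvPolynomial (Fin q) P) W :=
    ((a : Z →+* W).comp (algebraMap (MvPolynomial (Fin q) P) Z)).toAlgebra
  refine ⟨W, inferInstance, inferInstance, { (a : Z →+* W) with commutes' := fun _ => rfl },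
    { (b : W →+* B) with commutes' := fun x => ?_ }, ?_, ?_⟩
  · have := DFunLike.congr_fun hab (algebraMap (MvPolynomial (Fin q) P) Z x)
    exact this.trans (g.commutes x)
  · have h1 : (algebraMap (MvPolynomial (Fin q) P) W).comp (C : P →+* MvPolynomial (Fin q) P) =
        algebraMap P W := by
      ext x
      exact a.commutes x
    change ((algebraMap (MvPolynomial (Fin q) P) W).comp (C : P →+* MvPolynomial (Fin q) P)).Smooth
    rw [h1, RingHom.smooth_algebraMap]
    exact hW
  · ext x
    exact DFunLike.congr_fun hab x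

/-- The inverse system of spectra. -/
theorem exists_sys (h : Smoothing.IndSmooth P B) :
    ∃ (ι : Type u) (_ : PartialOrder ι) (_ : IsDirected ι (· ≤ ·)) (_ : Nonempty ι)
      (D : ιᵒᵖ ⥤ Scheme.{u}) (τ : ∀ a, D.obj a ⟶ Spec (CommRingCat.of (MvPolynomial (Fin q) P)))
      (_ : ∀ ⦃a b : ιᵒᵖ⦄ (f : a ⟶ b), D.map f ≫ τ b = τ a)
      (c : Cone D) (_ : IsLimit c) (e : c.pt ≅ Spec (CommRingCat.of B)),
      (∀ a, e.inv ≫ c.π.app a ≫ τ a = Spec.map (CommRingCat.ofHom (algebraMap (MvPolynomial (Fin q) P) B))) ∧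
      (∀ ⦃a b : ιᵒᵖ⦄ (f : a ⟶ b), IsAffineHom (D.map f)) ∧
      ∀ a, ∃ (A : Type u) (_ : CommRing A) (φ : MvPolynomial (Fin q) P →+* A) (e : D.obj a ≅ Spec (CommRingCat.of A)),
        e.hom ≫ Spec.map (CommRingCat.ofHom φ) = τ a ∧ (φ.comp C).Smooth := by
  obtain ⟨J, _, _, F, c, hc, hF, ⟨e⟩⟩ := isInd (q := q) h
  obtain ⟨ι, _, _, _, G, _⟩ := IsFiltered.exists_directed J
  have hc' : IsColimit (c.whisker G) := (Functor.Final.isColimitWhiskerEquiv G c).symm hc
  refine ⟨ι, inferInstance, inferInstance, inferInstance, SmLim.diag (G ⋙ F) ⋙ Over.forget _,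
    fun a => ((SmLim.diag (G ⋙ F)).obj a).hom, fun a b f => Over.w ((SmLim.diag (G ⋙ F)).map f),
    SmLim.cone (G ⋙ F) (c.whisker G), isLimitCone (G ⋙ F) hc',
    (Scheme.Spec.mapIso ((Under.forget _).mapIso e).op).symm, ?_, ?_, ?_⟩
  · intro i
    change Spec.map e.hom.right ≫ Spec.map (c.ι.app (G.obj i.unop)).right ≫
      Spec.map (F.obj (G.obj i.unop)).hom = _
    rw [← Spec.map_comp, ← Spec.map_comp]
    congr 1
    have h1 := Under.w (c.ι.app (G.obj i.unop))
    have h2 := Under.w e.hom
    rw [h1]
    exact h2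
  · intro a b f
    change IsAffineHom (Spec.map ((G ⋙ F).map f.unop).right)
    infer_instance
  · intro a
    exact ⟨(F.obj (G.obj a.unop)).right, inferInstance, (F.obj (G.obj a.unop)).hom.hom, Iso.refl _,
      Category.id_comp _, hF _⟩

end Groth.Agent.Sga2lef.H101.PolyInd
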