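import Mathlib.AlgebraicGeometry.Morphisms.ClosedImmersion
import Mathlib.Algebra.MvPolynomial.CommRing
import Mathlib.Algebra.Category.Ring.Constructions
import Mathlib.AlgebraicGeometry.Limits
import Mathlib.AlgebraicGeometry.Pullbacks

/-!
# The zero section of affine space and its base changes

`z0 P q : Spec P ⟶ Spec P[Y_1, …, Y_q]` the zero section; the base change along `Spec φ : Spec A ⟶ Spec P[Y]` is
`Spec (A/(φ(Y_1), …, φ(Y_q)))`.
-/

set_option autoImplicit false
universe u
open CategoryTheory CategoryTheory.Limits AlgebraicGeometry Opposite MvPolynomial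

namespace Groth.Agent.Sga2lef.H101.ZeroSec

variable (P : Type u) [CommRing P] (q : ℕ)

/-- Evaluation at zero. -/
noncomputable def ev0 : MvPolynomial (Fin q) P →ₐ[P] P := aeval (fun _ => (0 : P))

/-- The zero section. -/
noncomputable def z0 : Spec (CommRingCat.of P) ⟶ Spec (CommRingCat.of (MvPolynomial (Fin q) P)) :=
  Spec.map (CommRingCat.ofHom (ev0 P q).toRingHom)

theorem ev0_surjective : Function.Surjective (ev0 P q) := fun x => ⟨C x, by simp [ev0]⟩

instance : IsClosedImmersion (z0 P q) := IsClosedImmersion.spec_of_surjective _ (ev0_surjective P q)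

theorem sub_mem (p : MvPolynomial (Fin q) P) :
    p - C (ev0 P q p) ∈ (Ideal.span (Set.range X) : Ideal (MvPolynomial (Fin q) P)) := by
  induction p using MvPolynomial.induction_on with
  | C a => simp [ev0]
  | add p r hp hr =>
    have e : p + r - C (ev0 P q (p + r)) = (p - C (ev0 P q p)) + (r - C (ev0 P q r)) := by
      rw [map_add, map_add]; ring
    rw [e]
    exact Ideal.add_mem _ hp hr
  | mul_X p i hp =>
    have e : ev0 P q (p * X i) = 0 := by simp [ev0]
    rw [e, map_zero, sub_zero]
    exact Ideal.mul_mem_left _ _ (Ideal.subset_span ⟨i, rfl⟩)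

variable {P q} {A : Type u} [CommRing A] (φ : MvPolynomial (Fin q) P →+* A)

/-- The ideal generated by the images of the variables. -/
noncomputable abbrev J : Ideal A := Ideal.span (Set.range fun j => φ (X j))

theorem mk_φ (p : MvPolynomial (Fin q) P) :
    Ideal.Quotient.mk (J φ) (φ p) = Ideal.Quotient.mk (J φ) (φ (C (ev0 P q p))) := by
  rw [Ideal.Quotient.eq, ← map_sub]
  have h1 : Ideal.span (Set.range X) ≤ (J φ).comap φ := by
    rw [Ideal.span_le]
    rintro _ ⟨i, rfl⟩
    exact Ideal.subset_span ⟨i, rfl⟩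
  exact h1 (sub_mem P q p)

theorem isPushout : IsPushout (CommRingCat.ofHom φ) (CommRingCat.ofHom (ev0 P q).toRingHom)
    (CommRingCat.ofHom (Ideal.Quotient.mk (J φ)))
    (CommRingCat.ofHom (((Ideal.Quotient.mk (J φ)).comp φ).comp C)) := by
  refine ⟨⟨?_⟩, ⟨PushoutCocone.IsColimit.mk _ (fun s => CommRingCat.ofHom
    (Ideal.Quotient.lift (J φ) s.inl.hom ?_)) ?_ ?_ ?_⟩⟩
  · apply CommRingCat.hom_ext
    apply RingHom.ext
    intro p
    exact mk_φ φ p
  · intro a ha
    have h1 : J φ ≤ RingHom.ker s.inl.hom := by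
      rw [Ideal.span_le]
      rintro _ ⟨j, rfl⟩
      have h2 : s.inl.hom (φ (X j)) = s.inr.hom (ev0 P q (X j)) := congrArg (fun f => f.hom (X j)) s.condition
      have h3 : ev0 P q (X j) = 0 := by simp [ev0]
      rw [h3, map_zero] at h2
      exact h2
    exact h1 ha
  · intro s
    ext a
    rfl
  · intro s
    ext a
    have h2 : s.inl.hom (φ (C a)) = s.inr.hom (ev0 P q (C a)) := congrArg (fun f => f.hom (C a)) s.condition
    have h3 : ev0 P q (C a) = a := by simp [ev0]
    rw [h3] at h2
    exact h2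
  · intro s m h1 h2
    apply CommRingCat.hom_ext
    apply RingHom.ext
    intro a
    obtain ⟨a, rfl⟩ := Ideal.Quotient.mk_surjective a
    exact congrArg (fun f => f.hom a) h1

theorem isPullback : IsPullback (Spec.map (CommRingCat.ofHom (((Ideal.Quotient.mk (J φ)).comp φ).comp C)))
    (Spec.map (CommRingCat.ofHom (Ideal.Quotient.mk (J φ)))) (z0 P q) (Spec.map (CommRingCat.ofHom φ)) :=
  (isPushout φ).op.map Scheme.Spec

/-- The base change of the zero section. -/
theorem exists_iso {W : Scheme.{u}} {w1 : W ⟶ Spec (CommRingCat.of P)} {w2 : W ⟶ Spec (CommRingCat.of A)}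
    (h : IsPullback w1 w2 (z0 P q) (Spec.map (CommRingCat.ofHom φ))) :
    ∃ e : W ≅ Spec (CommRingCat.of (A ⧸ J φ)), e.hom ≫ Spec.map (CommRingCat.ofHom (Ideal.Quotient.mk (J φ))) = w2 ∧
      e.hom ≫ Spec.map (CommRingCat.ofHom (((Ideal.Quotient.mk (J φ)).comp φ).comp C)) = w1 :=
  ⟨IsPullback.isoIsPullback _ _ h (isPullback φ), IsPullback.isoIsPullback_hom_snd _ _ _ _,
    IsPullback.isoIsPullback_hom_fst _ _ _ _⟩

end Groth.Agent.Sga2lef.H101.ZeroSec
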