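import Groth.Agent.Sga2lef.H101.DepthLim
import Groth.Agent.Sga2lef.H101.ZeroSec
import Groth.Agent.Sga2lef.H101.PolyInd
import Groth.Agent.Sga2lef.H87.PullLocCoh
import Groth.Agent.Sga4B.ConstLC

/-!
# Étale depth of quotients of ind-smooth algebras

`depthGE_of_stages`: `P` a ring, `U₀` a quasi-compact open subscheme of `Spec P`, `B` an ind-smooth `P`-algebra and
`f_1, …, f_q ∈ B`.  If for every smooth `P`-algebra `A` and all `F_1, …, F_q ∈ A` the étale depth of a constant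
sheaf on `Spec A/(F)` along the preimage of `Spec P ∖ U₀` is `≥ n`, then the same holds for `B/(f)`.
-/

set_option autoImplicit false
universe u
open CategoryTheory CategoryTheory.Limits AlgebraicGeometry Opposite MvPolynomial

namespace Groth.Agent.Sga2lef.H101.LimDepth

open EtCoh

theorem _root_.Groth.Agent.Sga2lef.H101.LimDepth.of_iso_sheaf {X U : Scheme.{u}} (j : U ⟶ X) [EtCoh.BCCont j]
    {F G : Ab X} (e : F ≅ G) {n : ℕ} (h : EtDepth.DepthGE j F n) : EtDepth.DepthGE j G n :=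
  fun p hp => (h p hp).of_iso ((EtDual.locCoh j p).mapIso e).symm

/-- Étale depth and weakly étale base change. -/
theorem pull {X U X' U' : Scheme.{u}} {j : U ⟶ X} {j' : U' ⟶ X'} {g : X' ⟶ X} {g' : U' ⟶ U}
    [IsOpenImmersion j] [IsOpenImmersion j'] [QuasiCompact j] [WeaklyEtale g] (sq : IsPullback g' j' j g)
    (F : Ab X) {n : ℕ} (h : EtDepth.DepthGE j F n) : EtDepth.DepthGE j' ((EtCoh.pull g).obj F) n := by
  intro p hp
  obtain ⟨e⟩ := Groth.Agent.Sga2lef.H87.PullLocCoh.nonempty_pull_locCoh_iso sq F p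
  exact ((EtCoh.pull g).map_isZero (h p hp)).of_iso e.symm

/-- The case of constant sheaves. -/
theorem pull_const {X U X' U' : Scheme.{u}} {j : U ⟶ X} {j' : U' ⟶ X'} {g : X' ⟶ X} {g' : U' ⟶ U}
    [IsOpenImmersion j] [IsOpenImmersion j'] [QuasiCompact j] [WeaklyEtale g] (sq : IsPullback g' j' j g)
    (M : Type) [AddCommGroup M] {n : ℕ} (h : EtDepth.DepthGE j (const X M) n) :
    EtDepth.DepthGE j' (const X' M) n :=
  of_iso_sheaf j' (Groth.Agent.Sga4B.ConstLC.pullConstIso g M) (pull sq _ h)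

theorem exists_left {Y X W U U₁ U₂ : Scheme.{u}} {j : U ⟶ Y} {b : X ⟶ Y} {a : W ⟶ X} {w : W ⟶ Y}
    (hw : a ≫ b = w) {g₁ : U₁ ⟶ U} {j₁ : U₁ ⟶ W} (s : IsPullback g₁ j₁ j w) {g₂ : U₂ ⟶ U} {j₂ : U₂ ⟶ X}
    (t : IsPullback g₂ j₂ j b) : ∃ h : U₁ ⟶ U₂, IsPullback h j₁ j₂ a := by
  have h1 : g₁ ≫ j = (j₁ ≫ a) ≫ b := by rw [Category.assoc, hw, s.w]
  refine ⟨t.lift g₁ (j₁ ≫ a) h1, ?_⟩
  refine IsPullback.of_right (h₁₂ := g₂) (v₁₃ := j) (h₂₂ := b) ?_ (t.lift_snd _ _ _) t
  rw [t.lift_fst, hw]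
  exact s

/-- Transport of the étale depth along an isomorphism over the base. -/
theorem transport {Y X W U U₁ U₂ : Scheme.{u}} {j : U ⟶ Y} {b : X ⟶ Y} {a : W ⟶ X} [IsIso a] {w : W ⟶ Y}
    (hw : a ≫ b = w) {g₁ : U₁ ⟶ U} {j₁ : U₁ ⟶ W} (s : IsPullback g₁ j₁ j w) {g₂ : U₂ ⟶ U} {j₂ : U₂ ⟶ X}
    (t : IsPullback g₂ j₂ j b) [IsOpenImmersion j₁] [IsOpenImmersion j₂] [QuasiCompact j₂]
    (M : Type) [AddCommGroup M] {n : ℕ} (h : EtDepth.DepthGE j₂ (const X M) n) :
    EtDepth.DepthGE j₁ (const W M) n := by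
  obtain ⟨h', sq⟩ := exists_left hw s t
  exact pull_const sq M h

section Main

variable {P : Type u} [CommRing P] (U₀ : (Spec (CommRingCat.of P)).Opens)

/-- The preimage of `U₀`. -/
noncomputable abbrev V {C : Type u} [CommRing C] (ψ : P →+* C) : (Spec (CommRingCat.of C)).Opens :=
  Spec.map (CommRingCat.ofHom ψ) ⁻¹ᵁ U₀

theorem exists_sq {C : Type u} [CommRing C] (ψ : P →+* C) :
    ∃ g' : (V U₀ ψ).toScheme ⟶ U₀.toScheme, IsPullback g' (V U₀ ψ).ι U₀.ι (Spec.map (CommRingCat.ofHom ψ)) :=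
  ⟨_, isPullback_morphismRestrict _ _⟩

variable [QuasiCompact U₀.ι]

instance {C : Type u} [CommRing C] (ψ : P →+* C) : QuasiCompact (V U₀ ψ).ι := by
  obtain ⟨g', h⟩ := exists_sq U₀ ψ
  exact MorphismProperty.of_isPullback (P := @QuasiCompact) h inferInstance

variable (M : Type) [AddCommGroup M] (n q : ℕ)

/-- The hypothesis on the smooth algebras. -/
def Stages : Prop :=
  ∀ (A : Type u) [CommRing A] (α : P →+* A) (_ : α.Smooth) (F : Fin q → A),
    EtDepth.DepthGE (V U₀ ((Ideal.Quotient.mk (Ideal.span (Set.range F))).comp α)).ι (const _ M) n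

variable {M n q U₀}

theorem isPullback_stage {W : Scheme.{u}} (x : W ⟶ Spec (CommRingCat.of (MvPolynomial (Fin q) P))) {A : Type u}
    [CommRing A] (φ : MvPolynomial (Fin q) P →+* A) (eA : W ≅ Spec (CommRingCat.of A))
    (he : eA.hom ≫ Spec.map (CommRingCat.ofHom φ) = x) :
    IsPullback (pullback.fst (ZeroSec.z0 P q) x) (pullback.snd (ZeroSec.z0 P q) x ≫ eA.hom) (ZeroSec.z0 P q)
      (Spec.map (CommRingCat.ofHom φ)) := by
  have h1 : IsPullback eA.hom x (Spec.map (CommRingCat.ofHom φ)) (𝟙 _) :=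
    IsPullback.of_horiz_isIso ⟨by rw [he, Category.comp_id]⟩
  have h2 := ((IsPullback.of_hasPullback (ZeroSec.z0 P q) x).flip.paste_horiz h1).flip
  rw [Category.comp_id] at h2
  exact h2

theorem stage (H : Stages U₀ M n q) {W : Scheme.{u}} (x : W ⟶ Spec (CommRingCat.of (MvPolynomial (Fin q) P)))
    {A : Type u} [CommRing A] (φ : MvPolynomial (Fin q) P →+* A) (eA : W ≅ Spec (CommRingCat.of A))
    (he : eA.hom ≫ Spec.map (CommRingCat.ofHom φ) = x) (hφ : (φ.comp C).Smooth) :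
    EtDepth.DepthGE (pullback.snd U₀.ι (pullback.fst (ZeroSec.z0 P q) x)) (const _ M) n := by
  obtain ⟨e, -, he1⟩ := ZeroSec.exists_iso φ (isPullback_stage x φ eA he)
  obtain ⟨g', hg⟩ := exists_sq U₀ (((Ideal.Quotient.mk (ZeroSec.J φ)).comp φ).comp C)
  exact transport he1 (IsPullback.of_hasPullback _ _) hg M (H A (φ.comp C) hφ (fun j => φ (X j)))

theorem base (H : Stages U₀ M n q) : EtDepth.DepthGE U₀.ι (const _ M) n := by
  have hmono : Mono (ZeroSec.z0 P q) := inferInstance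
  have h1 := stage H (ZeroSec.z0 P q) (ZeroSec.ev0 P q).toRingHom (Iso.refl _) (Category.id_comp _) (by
    have : (ZeroSec.ev0 P q).toRingHom.comp C = RingHom.id P := (ZeroSec.ev0 P q).comp_algebraMap
    rw [this]
    exact RingHom.Smooth.id P)
  have h2 : IsIso (pullback.fst (ZeroSec.z0 P q) (ZeroSec.z0 P q)) := inferInstance
  exact transport (a := inv (pullback.fst (ZeroSec.z0 P q) (ZeroSec.z0 P q))) (IsIso.inv_hom_id _)
    (IsPullback.of_horiz_isIso ⟨by simp⟩ : IsPullback (𝟙 _) U₀.ι U₀.ι (𝟙 _)) (IsPullback.of_hasPullback _ _) M h1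

theorem main_aux {B : Type u} [CommRing B] [Algebra P B] [Algebra (MvPolynomial (Fin q) P) B]
    [IsScalarTower P (MvPolynomial (Fin q) P) B] (h : Smoothing.IndSmooth P B) (hn : 2 ≤ n)
    (H : Stages U₀ M n q) :
    EtDepth.DepthGE (V U₀ ((Ideal.Quotient.mk (Ideal.span (Set.range fun j : Fin q =>
      algebraMap (MvPolynomial (Fin q) P) B (X j)))).comp (algebraMap P B))).ι (const _ M) n := by
  obtain ⟨ι, _, _, _, D, τ, hτ, c, hc, e, he, haff, hst⟩ := PolyInd.exists_sys (q := q) h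
  have hoi : ∀ {W : Scheme.{u}} (f : W ⟶ Spec (CommRingCat.of P)), IsOpenImmersion (pullback.snd U₀.ι f) :=
    fun f => MorphismProperty.pullback_snd _ _ inferInstance
  let t : c.pt ⟶ Spec (CommRingCat.of (MvPolynomial (Fin q) P)) :=
    e.hom ≫ Spec.map (CommRingCat.ofHom (algebraMap (MvPolynomial (Fin q) P) B))
  have ht : ∀ a, c.π.app a ≫ τ a = t := by
    intro a
    change _ = e.hom ≫ _
    rw [← he a, Iso.hom_inv_id_assoc]
  have hlim := Etcore.PullbackSys.isLimitCone D τ hτ (ZeroSec.z0 P q) c t ht hc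
  have haff' : ∀ {a b : ιᵒᵖ} (φ : a ⟶ b),
      IsAffineHom ((Etcore.PullbackSys.sys D τ hτ (ZeroSec.z0 P q)).map φ) := fun φ =>
    Etcore.PullbackSys.isAffineHom_mapp D τ hτ (ZeroSec.z0 P q) haff φ
  let j' : pullback U₀.ι (pullback.fst (ZeroSec.z0 P q) t) ⟶
      (Etcore.PullbackSys.cone D τ hτ (ZeroSec.z0 P q) c t ht).pt :=
    pullback.snd U₀.ι (pullback.fst (ZeroSec.z0 P q) t)
  have hj' : IsOpenImmersion j' := hoi _
  have hd := DepthLim.depthGE_of_limit (j := U₀.ι) (F := const _ M) hlim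
    (fun a => pullback.fst (ZeroSec.z0 P q) (τ a))
    (fun a b f => Etcore.PullbackSys.mapp_fst D τ hτ (ZeroSec.z0 P q) f)
    (t := pullback.fst (ZeroSec.z0 P q) t)
    (fun a => Etcore.PullbackSys.proj_fst D τ (ZeroSec.z0 P q) c t ht a) n hn (base H)
    (fun a => by
      obtain ⟨A, _, φ, eA, h1, h2⟩ := hst a
      exact of_iso_sheaf _ (Groth.Agent.Sga4B.ConstLC.pullConstIso _ M).symm (stage H (τ a) φ eA h1 h2))
    j' (pullback.fst _ _) (IsPullback.of_hasPullback _ _)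
  have hd' : EtDepth.DepthGE (pullback.snd U₀.ι (pullback.fst (ZeroSec.z0 P q) t)) (const _ M) n :=
    of_iso_sheaf _ (Groth.Agent.Sga4B.ConstLC.pullConstIso _ M) hd
  obtain ⟨e', -, he'⟩ := ZeroSec.exists_iso (algebraMap (MvPolynomial (Fin q) P) B)
    (isPullback_stage t (algebraMap (MvPolynomial (Fin q) P) B) e rfl)
  have hC : (algebraMap (MvPolynomial (Fin q) P) B).comp C = algebraMap P B :=
    (IsScalarTower.algebraMap_eq P (MvPolynomial (Fin q) P) B).symm
  rw [RingHom.comp_assoc, hC] at he'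
  obtain ⟨g', hg⟩ := exists_sq U₀ ((Ideal.Quotient.mk (ZeroSec.J (algebraMap (MvPolynomial (Fin q) P) B))).comp
    (algebraMap P B))
  exact transport (a := e'.inv) (b := pullback.fst (ZeroSec.z0 P q) t) (by rw [← he', Iso.inv_hom_id_assoc]) hg
    (IsPullback.of_hasPullback _ _) M hd'

/-- **Étale depth of quotients of ind-smooth algebras.** -/
theorem depthGE_of_stages {B : Type u} [CommRing B] [Algebra P B] (h : Smoothing.IndSmooth P B) (hn : 2 ≤ n)
    (H : Stages U₀ M n q) (f : Fin q → B) :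
    EtDepth.DepthGE (V U₀ ((Ideal.Quotient.mk (Ideal.span (Set.range f))).comp (algebraMap P B))).ι
      (const _ M) n := by
  let _ : Algebra (MvPolynomial (Fin q) P) B := (aeval f : MvPolynomial (Fin q) P →ₐ[P] B).toRingHom.toAlgebra
  have t : IsScalarTower P (MvPolynomial (Fin q) P) B := by
    apply IsScalarTower.of_algebraMap_eq
    intro x
    exact ((aeval f : MvPolynomial (Fin q) P →ₐ[P] B).commutes x).symm
  have hf : (fun j : Fin q => algebraMap (MvPolynomial (Fin q) P) B (X j)) = f := by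
    funext j
    exact aeval_X f j
  have key := main_aux (B := B) h hn H
  rw [hf] at key
  exact key

end Main

end Groth.Agent.Sga2lef.H101.LimDepth
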