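import Groth.Agent.Sga2lef.H101.AffOrigin
import Groth.Agent.Sga2lef.H101.LocCohBC
import Groth.Agent.Sga2lef.H101.SmLimBC
import Groth.Agent.Sga2lef.H101.IndSmoothPoly
import Groth.Agent.Sga4B.LocCohTriv
import Groth.Prelude.Def_FEt
import Groth.Prelude.Def_EtDepth

/-!
# Purity at the closed point of a regular local ring of equal characteristic zero

`R` a regular local ring of dimension `d` over a field `k` of characteristic zero, `n ≠ 0`: the local cohomology
sheaves of `ℤ/n` on `Spec R` with support in the closed point vanish in degrees `≠ 2d`, and the one in degree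
`2d` does not vanish if `n ≠ 1`.
-/

set_option autoImplicit false
universe u
open CategoryTheory CategoryTheory.Limits AlgebraicGeometry Opposite MvPolynomial IsLocalRing

namespace Groth.Agent.Sga2lef.H101.LocalPurity

theorem exists_params (R : Type u) [CommRing R] [IsRegularLocalRing R] (d : ℕ) (hd : ringKrullDim R = d) :
    ∃ t : Fin d → R, Ideal.span (Set.range t) = maximalIdeal R := by
  have hfg : (maximalIdeal R).FG := IsNoetherian.noetherian _
  obtain ⟨s, hs, hs2⟩ := Submodule.FG.exists_span_finset_card_eq_spanFinrank hfg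
  have h1 : (s.card : WithBot ℕ∞) = d := by
    rw [hs, ← hd]
    exact IsRegularLocalRing.spanFinrank_maximalIdeal
  have h2 : s.card = d := by exact_mod_cast h1
  let e := (Fintype.equivFinOfCardEq (α := s) (by rw [Fintype.card_coe, h2])).symm
  refine ⟨fun i => (e i : R), ?_⟩
  have h3 : Set.range (fun i => (e i : R)) = (s : Set R) := by
    ext x
    constructor
    · rintro ⟨i, rfl⟩
      exact (e i).2
    · intro hx
      exact ⟨e.symm ⟨x, hx⟩, by simp⟩
  rw [h3]
  exact hs2

section

variable (k : Type u) [Field k] [CharZero k] (R : Type u) [CommRing R] [IsRegularLocalRing R] [Algebra k R]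
  {d : ℕ} [Algebra (MvPolynomial (Fin d) k) R] [IsScalarTower k (MvPolynomial (Fin d) k) R]

/-- The morphism to affine space given by the parameters. -/
noncomputable abbrev g : Spec (CommRingCat.of R) ⟶ AffOrigin.A k d :=
  Spec.map (CommRingCat.ofHom (algebraMap (MvPolynomial (Fin d) k) R))

omit [CharZero k] [Algebra k R] [IsScalarTower k (MvPolynomial (Fin d) k) R] in
theorem preimage_U
    (ht : Ideal.span (Set.range fun i : Fin d => algebraMap (MvPolynomial (Fin d) k) R (X i)) = maximalIdeal R) :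
    (g k R (d := d)) ⁻¹ᵁ (AffOrigin.U k d) = FEt.puncturedSpec R := by
  ext x
  change ¬ ((AffOrigin.ideal k d : Set (MvPolynomial (Fin d) k)) ⊆
    ((x : PrimeSpectrum R).comap (algebraMap (MvPolynomial (Fin d) k) R)).asIdeal) ↔
      ¬ ((x : PrimeSpectrum R) = closedPoint R)
  rw [not_iff_not]
  have h1 : ((AffOrigin.ideal k d : Set (MvPolynomial (Fin d) k)) ⊆
    ((x : PrimeSpectrum R).comap (algebraMap (MvPolynomial (Fin d) k) R)).asIdeal) ↔
      maximalIdeal R ≤ (x : PrimeSpectrum R).asIdeal := by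
    rw [← ht, Ideal.span_le, AffOrigin.ideal]
    change Ideal.span _ ≤ _ ↔ _
    rw [Ideal.span_le]
    constructor
    · rintro h _ ⟨i, rfl⟩
      exact h ⟨i, rfl⟩
    · rintro h _ ⟨i, rfl⟩
      exact h ⟨i, rfl⟩
  rw [h1]
  constructor
  · intro h
    apply PrimeSpectrum.ext
    exact ((maximalIdeal.isMaximal R).eq_of_le (x : PrimeSpectrum R).isPrime.ne_top h).symm
  · intro h
    rw [h]
    exact le_rfl

omit [CharZero k] [Algebra k R] [IsScalarTower k (MvPolynomial (Fin d) k) R] in
theorem exists_isPullback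
    (ht : Ideal.span (Set.range fun i : Fin d => algebraMap (MvPolynomial (Fin d) k) R (X i)) = maximalIdeal R) :
    ∃ g' : (FEt.puncturedSpec R).toScheme ⟶ (AffOrigin.U k d).toScheme,
      IsPullback g' (FEt.puncturedSpec R).ι (AffOrigin.U k d).ι (g k R (d := d)) := by
  have h := preimage_U k R ht
  rw [← h]
  exact ⟨_, isPullback_morphismRestrict _ _⟩

omit [CharZero k] [Algebra k R] [IsScalarTower k (MvPolynomial (Fin d) k) R] in
theorem g_closedPoint
    (ht : Ideal.span (Set.range fun i : Fin d => algebraMap (MvPolynomial (Fin d) k) R (X i)) = maximalIdeal R) :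
    g k R (d := d) (closedPoint R) ∈ Set.range (AffOrigin.i k d) := by
  by_contra hcon
  have h1 : g k R (d := d) (closedPoint R) ∈ AffOrigin.U k d := by
    rw [AffOrigin.range_i] at hcon
    exact hcon
  have h2 : (closedPoint R : Spec (CommRingCat.of R)) ∈ (g k R (d := d)) ⁻¹ᵁ (AffOrigin.U k d) := h1
  rw [preimage_U k R ht] at h2
  exact h2 rfl

theorem bcMor (hd : ringKrullDim R = d)
    (ht : Ideal.span (Set.range fun i : Fin d => algebraMap (MvPolynomial (Fin d) k) R (X i)) = maximalIdeal R) :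
    EtpbcB.BCU.BCMor (Spec (CommRingCat.of k)) (g k R (d := d)) :=
  SmLimBC.bcMor_of_indSmooth (IndSmoothPoly.indSmooth_params hd ht) (AffOrigin.f k d)

omit [CharZero k] in
theorem isTorsionInvertibleOn_const {n : ℕ} (hn : (n : k) ≠ 0) (Y : Scheme.{u}) :
    EtPBC.IsTorsionInvertibleOn (Spec (CommRingCat.of k)) (EtCoh.const Y (ZMod n)) := by
  have hn0 : n ≠ 0 := by rintro rfl; exact hn (by simp)
  have : NeZero n := ⟨hn0⟩
  intro V s x
  refine ⟨V, 𝟙 V, n, ⟨x, rfl⟩, ?_, AffOrigin.killedBy_const Y n V _⟩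
  have h0 : IsUnit (n : k) := Ne.isUnit hn
  have h3 := h0.map (Scheme.ΓSpecIso (CommRingCat.of k)).inv.hom
  rw [map_natCast] at h3
  exact h3

end

variable (k : Type u) [Field k] [CharZero k] (R : Type u) [CommRing R] [IsRegularLocalRing R] [Algebra k R] {d : ℕ}

theorem isEmpty_puncturedSpec (hd : ringKrullDim R = (0 : ℕ)) : IsEmpty (FEt.puncturedSpec R).toScheme := by
  refine ⟨fun x => x.2 ?_⟩
  have h0 : ringKrullDim R = 0 := by exact_mod_cast hd
  have : Ring.KrullDimLE 0 R := by
    rw [Ring.krullDimLE_iff, h0]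
    rfl
  have h1 : (((FEt.puncturedSpec R).ι x : Spec (CommRingCat.of R)) : PrimeSpectrum R).asIdeal.IsMaximal :=
    Ideal.isMaximal_of_isPrime _
  exact PrimeSpectrum.ext (eq_maximalIdeal h1)

include k in
/-- Vanishing in degrees `≠ 2d`. -/
theorem isZero_locCoh (hd : ringKrullDim R = d) {n : ℕ} (hn : n ≠ 0) {q : ℕ} (hq : q ≠ 2 * d) :
    IsZero ((EtDual.locCoh (FEt.puncturedSpec R).ι q).obj
      (EtCoh.const (Spec (CommRingCat.of R)) (ZMod n))) := by
  rcases Nat.eq_zero_or_pos d with rfl | hd0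
  · have := isEmpty_puncturedSpec R hd
    obtain ⟨q, rfl⟩ := Nat.exists_eq_succ_of_ne_zero (by omega : q ≠ 0)
    exact Sga4B.LocCohTriv.isZero_locCoh_succ_of_isEmpty _ _ q
  · obtain ⟨t, ht⟩ := exists_params R d hd
    let _ : Algebra (MvPolynomial (Fin d) k) R := (aeval (R := k) t).toAlgebra
    have : IsScalarTower k (MvPolynomial (Fin d) k) R :=
      IsScalarTower.of_algebraMap_eq' (aeval (R := k) t).comp_algebraMap.symm
    have ht' : Ideal.span (Set.range fun i : Fin d => algebraMap (MvPolynomial (Fin d) k) R (X i)) =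
        maximalIdeal R := by
      rw [← ht]
      congr 2
      funext i
      exact aeval_X t i
    have hnk : (n : k) ≠ 0 := by exact_mod_cast hn
    obtain ⟨g', sq⟩ := exists_isPullback k R ht'
    have h1 := LocCohBC.isZero_locCoh_pull (bcMor k R hd ht') sq
      (EtCoh.const (AffOrigin.A k d) (ZMod n)) (isTorsionInvertibleOn_const k hnk _) q
      ((AffOrigin.purity k hd0 hnk).1 q hq)
    exact h1.of_iso ((EtDual.locCoh (FEt.puncturedSpec R).ι q).mapIso
      (Groth.Agent.Sga4B.Pure.pullConst (g k R (d := d)) (ZMod n)).symm)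

include k in
/-- Non-vanishing in degree `2d`. -/
theorem not_isZero_locCoh (hd : ringKrullDim R = d) {n : ℕ} (hn : n ≠ 0) (hn1 : n ≠ 1) :
    ¬ IsZero ((EtDual.locCoh (FEt.puncturedSpec R).ι (2 * d)).obj
      (EtCoh.const (Spec (CommRingCat.of R)) (ZMod n))) := by
  intro h
  have hnt : Nontrivial (ZMod n) := by
    have : Fact (1 < n) := ⟨by omega⟩
    infer_instance
  rcases Nat.eq_zero_or_pos d with rfl | hd0
  · have := isEmpty_puncturedSpec R hd
    have hne : Nonempty (Spec (CommRingCat.of R)) := ⟨closedPoint R⟩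
    exact AffOrigin.not_isZero_const (Spec (CommRingCat.of R)) (ZMod n)
      (h.of_iso (Sga4B.LocCohTriv.locCohZeroIsoOfIsEmpty _ _).symm)
  · obtain ⟨t, ht⟩ := exists_params R d hd
    let _ : Algebra (MvPolynomial (Fin d) k) R := (aeval (R := k) t).toAlgebra
    have : IsScalarTower k (MvPolynomial (Fin d) k) R :=
      IsScalarTower.of_algebraMap_eq' (aeval (R := k) t).comp_algebraMap.symm
    have ht' : Ideal.span (Set.range fun i : Fin d => algebraMap (MvPolynomial (Fin d) k) R (X i)) =
        maximalIdeal R := by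
      rw [← ht]
      congr 2
      funext i
      exact aeval_X t i
    have hnk : (n : k) ≠ 0 := by exact_mod_cast hn
    obtain ⟨g', sq⟩ := exists_isPullback k R ht'
    obtain ⟨e⟩ := LocCohBC.nonempty_pull_locCoh_iso (bcMor k R hd ht') sq
      (EtCoh.const (AffOrigin.A k d) (ZMod n)) (isTorsionInvertibleOn_const k hnk _) (2 * d)
    refine AffOrigin.not_isZero_pull_locCoh k hd0 hnk hn1 (g k R (d := d)) (closedPoint R)
      (g_closedPoint k R ht') ?_
    exact (h.of_iso ((EtDual.locCoh (FEt.puncturedSpec R).ι (2 * d)).mapIso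
      (Groth.Agent.Sga4B.Pure.pullConst (g k R (d := d)) (ZMod n)))).of_iso e

include k in
/-- Étale depth `2d` at the closed point. -/
theorem depthGE (hd : ringKrullDim R = d) {n : ℕ} (hn : n ≠ 0) (m : ℕ) (hm : m ≤ 2 * d) :
    EtDepth.DepthGE (FEt.puncturedSpec R).ι (EtCoh.const (Spec (CommRingCat.of R)) (ZMod n)) m :=
  fun _ hp => isZero_locCoh k R hd hn (by omega)

include k in
theorem not_depthGE (hd : ringKrullDim R = d) {n : ℕ} (hn : n ≠ 0) (hn1 : n ≠ 1) :
    ¬ EtDepth.DepthGE (FEt.puncturedSpec R).ι (EtCoh.const (Spec (CommRingCat.of R)) (ZMod n)) (2 * d + 1) :=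
  fun h => not_isZero_locCoh k R hd hn hn1 (h (2 * d) (by omega))

end Groth.Agent.Sga2lef.H101.LocalPurity
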