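import Mathlib.RingTheory.Smooth.Local
import Mathlib.RingTheory.Smooth.Field
import Mathlib.RingTheory.Smooth.Locus
import Mathlib.RingTheory.Kaehler.JacobiZariski
import Mathlib.RingTheory.Kaehler.Polynomial
import Mathlib.RingTheory.LocalRing.Module
import Mathlib.RingTheory.LocalRing.ResidueField.Basic

/-!
# Smoothness over a polynomial ring from independence of parameters

`formallySmooth_mvPolynomial`: a local algebra `L`, formally smooth and essentially of finite type over a perfect
field `k`, with elements `s_1, …, s_d` of the maximal ideal which are linearly independent modulo its square, is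
formally smooth over `k[X_1, …, X_d]` (acting through `X_i ↦ s_i`).
-/

set_option autoImplicit false
universe u
open TensorProduct IsLocalRing KaehlerDifferential MvPolynomial

namespace Groth.Agent.Sga2lef.H101.SmoothParam

variable {k L : Type u} [Field k] [PerfectField k] [CommRing L] [IsLocalRing L] [Algebra k L]
    [Algebra.FormallySmooth k L] [Algebra.EssFiniteType k L]
    {d : ℕ} [Algebra (MvPolynomial (Fin d) k) L] [IsScalarTower k (MvPolynomial (Fin d) k) L]

omit [IsScalarTower k (MvPolynomial (Fin d) k) L] in
/-- The differentials of independent elements of the maximal ideal are independent at the closed point. -/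
theorem residue_eq_zero_of_sum_eq_zero
    (hm : ∀ i, algebraMap (MvPolynomial (Fin d) k) L (X i) ∈ maximalIdeal L)
    (hind : ∀ a : Fin d → L, ∑ i, a i * algebraMap (MvPolynomial (Fin d) k) L (X i) ∈ maximalIdeal L ^ 2 →
      ∀ i, a i ∈ maximalIdeal L)
    (a : Fin d → L)
    (h : ∑ i, residue L (a i) ⊗ₜ[L] D k L (algebraMap (MvPolynomial (Fin d) k) L (X i)) = 0) (i : Fin d) :
    residue L (a i) = 0 := by
  have hsurj : Function.Surjective (algebraMap L (ResidueField L)) := residue_surjective
  have hess : Algebra.EssFiniteType k (ResidueField L) := by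
    have : Algebra.EssFiniteType L (ResidueField L) := by
      have : Algebra.FiniteType L (ResidueField L) := Algebra.FiniteType.of_surjective (Algebra.ofId L _) hsurj
      infer_instance
    exact Algebra.EssFiniteType.comp k L (ResidueField L)
  have hker : RingHom.ker (algebraMap L (ResidueField L)) = maximalIdeal L := by
    rw [ResidueField.algebraMap_eq]; exact ker_residue
  have hinj : Function.Injective (kerCotangentToTensor k L (ResidueField L)) :=
    (Algebra.FormallySmooth.kerCotangentToTensor_injective_iff hsurj).2 inferInstance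
  let s : Fin d → L := fun i => algebraMap (MvPolynomial (Fin d) k) L (X i)
  have hmem : ∑ i, a i * s i ∈ RingHom.ker (algebraMap L (ResidueField L)) := by
    rw [hker]
    exact Ideal.sum_mem _ fun i _ => Ideal.mul_mem_left _ _ (hm i)
  have h1 : kerCotangentToTensor k L (ResidueField L) (Ideal.toCotangent _ ⟨_, hmem⟩) = 0 := by
    rw [kerCotangentToTensor_toCotangent]
    rw [map_sum, TensorProduct.tmul_sum, ← h]
    refine Finset.sum_congr rfl fun i _ => ?_
    rw [Derivation.leibniz, TensorProduct.tmul_add, TensorProduct.tmul_smul, TensorProduct.tmul_smul,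
      TensorProduct.smul_tmul', TensorProduct.smul_tmul']
    have e1 : s i • (1 : ResidueField L) = 0 := by
      rw [← Algebra.algebraMap_eq_smul_one, ResidueField.algebraMap_eq, residue_eq_zero_iff]
      exact hm i
    rw [e1, TensorProduct.zero_tmul, add_zero, ← Algebra.algebraMap_eq_smul_one]
    rfl
  have h2 : Ideal.toCotangent _ ⟨_, hmem⟩ = 0 := by
    apply hinj
    rw [h1, map_zero]
  rw [Ideal.toCotangent_eq_zero] at h2
  have h3 : ∑ i, a i * s i ∈ RingHom.ker (algebraMap L (ResidueField L)) ^ 2 := h2
  rw [hker] at h3
  rw [residue_eq_zero_iff]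
  exact hind a h3 i

/-- The criterion. -/
theorem formallySmooth_mvPolynomial
    (hm : ∀ i, algebraMap (MvPolynomial (Fin d) k) L (X i) ∈ maximalIdeal L)
    (hind : ∀ a : Fin d → L, ∑ i, a i * algebraMap (MvPolynomial (Fin d) k) L (X i) ∈ maximalIdeal L ^ 2 →
      ∀ i, a i ∈ maximalIdeal L) :
    Algebra.FormallySmooth (MvPolynomial (Fin d) k) L := by
  let P := MvPolynomial (Fin d) k
  let l : L ⊗[P] Ω[P⁄k] →ₗ[L] Ω[L⁄k] := mapBaseChange k P L
  have hfree : Module.Free L Ω[L⁄k] := Module.free_of_flat_of_isLocalRing
  have hb : Module.Finite P Ω[P⁄k] := inferInstance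
  -- injectivity modulo the maximal ideal
  let b : Module.Basis (Fin d) L (L ⊗[P] Ω[P⁄k]) := (mvPolynomialBasis k (Fin d)).baseChange L
  have hbi : ∀ i, b i = 1 ⊗ₜ D k P (X i) := by
    intro i
    simp only [b, Module.Basis.baseChange_apply, mvPolynomialBasis_apply]
    rfl
  have hl : Function.Injective (l.lTensor (ResidueField L)) := by
    let c : Module.Basis (Fin d) (ResidueField L) (ResidueField L ⊗[L] (L ⊗[P] Ω[P⁄k])) :=
      b.baseChange (ResidueField L)
    rw [injective_iff_map_eq_zero]
    intro z hz
    have hz1 : z = ∑ i, c.repr z i • c i := (c.sum_repr z).symm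
    choose a ha using fun i => residue_surjective (c.repr z i)
    have h1 : ∑ i, residue L (a i) ⊗ₜ[L] D k L (algebraMap P L (X i)) = 0 := by
      rw [← hz, hz1, map_sum]
      refine Finset.sum_congr rfl fun i _ => ?_
      have e1 : c.repr z i • c i = c.repr z i ⊗ₜ[L] b i := by
        simp [c, Module.Basis.baseChange_apply, TensorProduct.smul_tmul']
      rw [e1, LinearMap.lTensor_tmul, hbi, mapBaseChange_tmul, one_smul, map_D, ha]
    have h2 := residue_eq_zero_of_sum_eq_zero hm hind a h1
    rw [hz1]
    refine Finset.sum_eq_zero fun i _ => ?_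
    rw [← ha i, h2 i, zero_smul]
  obtain ⟨l', hl'⟩ := (IsLocalRing.split_injective_iff_lTensor_residueField_injective l).2 hl
  have hlinj : Function.Injective l := Function.HasLeftInverse.injective ⟨_, LinearMap.congr_fun hl'⟩
  refine ⟨?_, ?_⟩
  · -- projectivity of `Ω[L⁄P]`
    have hex : Function.Exact l (KaehlerDifferential.map k P L L) := by
      exact KaehlerDifferential.exact_mapBaseChange_map k P L
    have hs : Function.Surjective (KaehlerDifferential.map k P L L) :=
      KaehlerDifferential.map_surjective k P L
    obtain ⟨σ, hσ⟩ : ∃ σ, (KaehlerDifferential.map k P L L) ∘ₗ σ = LinearMap.id :=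
      (((hex.split_tfae' (g := KaehlerDifferential.map k P L L)).out 1 0 :).1 ⟨hs, l', hl'⟩).2
    exact Module.Projective.of_split σ _ hσ
  · -- vanishing of `H1Cotangent P L`
    have h1 := Algebra.H1Cotangent.exact_map_δ k P L
    have h2 := Algebra.H1Cotangent.exact_δ_mapBaseChange k P L
    have h3 : Subsingleton (Algebra.H1Cotangent k L) := inferInstance
    refine subsingleton_of_forall_eq 0 fun x => ?_
    have h4 : Algebra.H1Cotangent.δ k P L x = 0 := by
      apply hlinj
      rw [map_zero]
      exact h2.apply_apply_eq_zero x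
    obtain ⟨y, hy⟩ := (h1 x).1 h4
    rw [← hy, Subsingleton.elim y 0, map_zero]

end Groth.Agent.Sga2lef.H101.SmoothParam
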